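import Groth.Agent.Lib.TensorMod.Restrict
import Mathlib.Topology.Sheaves.SheafCondition.UniqueGluing
import Mathlib.RingTheory.TensorProduct.Basic

/-!
Skyscraper modules and the stalk of a pullback: `(f^* M)_y = O_{Y,y} ⊗_{O_{X,f y}} M_{f y}`.
-/

universe u

open CategoryTheory Limits AlgebraicGeometry TopologicalSpace Opposite TensorProduct

set_option backward.isDefEq.respectTransparency false

namespace Groth.Agent.M2

variable {X Y : Scheme.{u}}

section Sky

variable (y : Y) (T : Type u) [AddCommGroup T] [Module (Y.presheaf.stalk y) T]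

/-- Sections of the skyscraper module. -/
abbrev SkySec (U : Y.Opens) : Type u := PLift (y ∈ U) → T

/-- The action on sections of the skyscraper module. -/
noncomputable instance skyModule (U : Y.Opens) :
    Module (Y.ringCatSheaf.obj.obj (op U)) (SkySec y T U) :=
  letI : ∀ _ : PLift (y ∈ U), Module Γ(Y, U) T := fun h => Module.compHom T (Y.presheaf.germ U y h.down).hom
  (inferInstanceAs (Module Γ(Y, U) (PLift (y ∈ U) → T)))

theorem sky_smul_apply {U : Y.Opens} (r : Γ(Y, U)) (t : SkySec y T U) (h : y ∈ U) :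
    ((show Y.ringCatSheaf.obj.obj (op U) from r) • t) ⟨h⟩ = Y.presheaf.germ U y h r • t ⟨h⟩ := rfl

/-- The abelian presheaf underlying the skyscraper module. -/
noncomputable def skyAb : (Opens Y)ᵒᵖ ⥤ AddCommGrpCat.{u} where
  obj U := AddCommGrpCat.of (SkySec y T U.unop)
  map {U V} i := AddCommGrpCat.ofHom
    { toFun := fun t h => t ⟨leOfHom i.unop h.down⟩
      map_zero' := rfl
      map_add' := fun _ _ => rfl }

noncomputable instance skyAbModule (U : (Opens Y)ᵒᵖ) :
    Module (Y.ringCatSheaf.obj.obj U) ((skyAb y T).obj U) :=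
  skyModule y T U.unop

/-- The skyscraper presheaf of modules. -/
noncomputable def skyPre : Y.PresheafOfModules :=
  PresheafOfModules.ofPresheaf (skyAb y T) (by
    intro U V i r t
    funext ⟨h⟩
    change Y.presheaf.germ U.unop y (leOfHom i.unop h) r • t ⟨leOfHom i.unop h⟩ =
      Y.presheaf.germ V.unop y h (Y.presheaf.map i r) • t ⟨leOfHom i.unop h⟩
    rw [← TopCat.Presheaf.germ_res_apply Y.presheaf i.unop y h r]
    rfl)

/-- The skyscraper module at `y` with fibre `T`. -/
noncomputable def sky : Y.Modules where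
  val := skyPre y T
  isSheaf := by
    classical
    refine (TopCat.Presheaf.isSheaf_iff_isSheafUniqueGluing (C := AddCommGrpCat.{u}) _).mpr
      fun ι U sf hc => ?_
    refine ⟨fun h => sf (Opens.mem_iSup.mp h.down).choose ⟨(Opens.mem_iSup.mp h.down).choose_spec⟩, fun i => ?_,
      fun t ht => ?_⟩
    · funext ⟨h⟩
      have hh : y ∈ U (Opens.mem_iSup.mp ((le_iSup U i) h)).choose := (Opens.mem_iSup.mp ((le_iSup U i) h)).choose_spec
      exact congr_fun (hc (Opens.mem_iSup.mp ((le_iSup U i) h)).choose i) ⟨⟨hh, h⟩⟩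
    · funext ⟨h⟩
      exact congr_fun (ht (Opens.mem_iSup.mp h).choose) ⟨(Opens.mem_iSup.mp h).choose_spec⟩

/-- A section of the skyscraper, evaluated. -/
noncomputable def skyEvalAt {U : Y.Opens} (h : y ∈ U) (t : Γ(sky y T, U)) : T := (show SkySec y T U from t) ⟨h⟩

theorem sky_ext {U : Y.Opens} (s t : Γ(sky y T, U))
    (h : ∀ hy : y ∈ U, skyEvalAt y T hy s = skyEvalAt y T hy t) : s = t := funext fun hy => h hy.down

/-- Evaluation on the stalk. -/
noncomputable def skyEval : (sky y T).presheaf.stalk y →+ T :=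
  (colimit.desc ((OpenNhds.inclusion y).op ⋙ (sky y T).presheaf)
    { pt := AddCommGrpCat.of T
      ι :=
        { app := fun U => AddCommGrpCat.ofHom
            { toFun := fun t => skyEvalAt y T (U := U.unop.1) U.unop.2 t
              map_zero' := rfl
              map_add' := fun _ _ => rfl }
          naturality := fun U V i => by ext t; rfl } }).hom

theorem skyEval_germ {U : Y.Opens} (h : y ∈ U) (t : Γ(sky y T, U)) :
    skyEval y T ((sky y T).presheaf.germ U y h t) = skyEvalAt y T h t := by
  unfold skyEval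
  exact ConcreteCategory.congr_hom
    (colimit.ι_desc (F := (OpenNhds.inclusion y).op ⋙ (sky y T).presheaf) _ (op ⟨U, h⟩)) t

variable {y T}

/-- Functoriality of the skyscraper. -/
noncomputable def skyMap {T' : Type u} [AddCommGroup T'] [Module (Y.presheaf.stalk y) T']
    (g : T →ₗ[Y.presheaf.stalk y] T') : sky y T ⟶ sky y T' :=
  ⟨PresheafOfModules.homMk
    { app := fun U => AddCommGrpCat.ofHom
        { toFun := fun t h => g ((show SkySec y T U.unop from t) h)
          map_zero' := funext fun _ => map_zero g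
          map_add' := fun _ _ => funext fun _ => map_add g _ _ }
      naturality := fun U V i => rfl }
    (fun U r t => funext fun _ => map_smul g _ _)⟩

theorem skyMap_app {T' : Type u} [AddCommGroup T'] [Module (Y.presheaf.stalk y) T']
    (g : T →ₗ[Y.presheaf.stalk y] T') {U : Y.Opens} (t : Γ(sky y T, U)) (h : y ∈ U) :
    skyEvalAt y T' h ((skyMap g).app U t) = g (skyEvalAt y T h t) := rfl

variable (y)

/-- The canonical map to the skyscraper of the stalk. -/
noncomputable def toSky (N : Y.Modules) : N ⟶ sky y (N.presheaf.stalk y) :=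
  ⟨PresheafOfModules.homMk
    { app := fun U => AddCommGrpCat.ofHom
        { toFun := fun s h => N.presheaf.germ U.unop y h.down s
          map_zero' := funext fun _ => map_zero _
          map_add' := fun _ _ => funext fun _ => map_add _ _ _ }
      naturality := fun U V i => by
        ext s
        funext ⟨h⟩
        exact TopCat.Presheaf.germ_res_apply N.presheaf i.unop y h s }
    (fun U r s => funext fun h => sg_smul (pm N) h.down r s)⟩

theorem toSky_app (N : Y.Modules) {U : Y.Opens} (s : Γ(N, U)) (h : y ∈ U) :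
    skyEvalAt y (N.presheaf.stalk y) h ((toSky y N).app U s) = N.presheaf.germ U y h s := rfl

end Sky

section Pull

variable (f : Y ⟶ X) (y : Y)

/-- `O_{X,f y} → O_{Y,y}`. -/
noncomputable instance stAlg : Algebra (X.presheaf.stalk (f y)) (Y.presheaf.stalk y) :=
  (f.stalkMap y).hom.toAlgebra

theorem algebraMap_stAlg (r : X.presheaf.stalk (f y)) :
    algebraMap (X.presheaf.stalk (f y)) (Y.presheaf.stalk y) r = f.stalkMap y r := rfl

variable (M : X.Modules)

/-- The base change of the stalk. -/
abbrev BC : Type u := Y.presheaf.stalk y ⊗[X.presheaf.stalk (f y)] (M.presheaf.stalk (f y) : Type u)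

/-- `M ⟶ f_* sky (O_y ⊗ M_{f y})`. -/
noncomputable def toPushSky : M ⟶ (Scheme.Modules.pushforward f).obj (sky y (BC f y M)) :=
  ⟨PresheafOfModules.homMk
    { app := fun U => AddCommGrpCat.ofHom
        { toFun := fun s h => (1 : Y.presheaf.stalk y) ⊗ₜ[X.presheaf.stalk (f y)] M.presheaf.germ U.unop (f y) h.down s
          map_zero' := funext fun _ => by rw [map_zero, TensorProduct.tmul_zero]; rfl
          map_add' := fun _ _ => funext fun _ => by rw [map_add, TensorProduct.tmul_add]; rfl }
      naturality := fun U V i => by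
        ext s
        funext ⟨h⟩
        exact congrArg ((1 : Y.presheaf.stalk y) ⊗ₜ[X.presheaf.stalk (f y)] ·)
          (TopCat.Presheaf.germ_res_apply M.presheaf i.unop (f y) h s) }
    (fun U r s => funext fun ⟨h⟩ => by
      change (1 : Y.presheaf.stalk y) ⊗ₜ[X.presheaf.stalk (f y)] M.presheaf.germ U.unop (f y) h (r • s) =
        Y.presheaf.germ (f ⁻¹ᵁ U.unop) y h (f.app U.unop r) • ((1 : Y.presheaf.stalk y) ⊗ₜ[X.presheaf.stalk (f y)] M.presheaf.germ U.unop (f y) h s)
      rw [← Scheme.Hom.germ_stalkMap_apply, TensorProduct.smul_tmul', smul_eq_mul, mul_one]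
      refine Eq.trans (congrArg ((1 : Y.presheaf.stalk y) ⊗ₜ[X.presheaf.stalk (f y)] ·) (sg_smul (pm M) h r s)) ?_
      refine (TensorProduct.tmul_smul _ _ _).trans ?_
      rw [TensorProduct.smul_tmul', Algebra.smul_def, mul_one, algebraMap_stAlg]
      rfl)⟩

theorem toPushSky_app {U : X.Opens} (s : Γ(M, U)) (h : f y ∈ U) :
    skyEvalAt y (BC f y M) (U := f ⁻¹ᵁ U) h ((toPushSky f y M).app U s) = 1 ⊗ₜ M.presheaf.germ U (f y) h s := rfl

/-- `f^* M ⟶ sky (O_y ⊗ M_{f y})`. -/
noncomputable def pullToSky : (Scheme.Modules.pullback f).obj M ⟶ sky y (BC f y M) :=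
  ((Scheme.Modules.pullbackPushforwardAdjunction f).homEquiv _ _).symm (toPushSky f y M)

/-- The unit on sections. -/
noncomputable abbrev pullSec {U : X.Opens} (s : Γ(M, U)) : Γ((Scheme.Modules.pullback f).obj M, f ⁻¹ᵁ U) :=
  ((Scheme.Modules.pullbackPushforwardAdjunction f).unit.app M).app U s

theorem pullSec_add {U : X.Opens} (s t : Γ(M, U)) : pullSec f M (s + t) = pullSec f M s + pullSec f M t :=
  map_add _ s t

theorem pullSec_smul {U : X.Opens} (r : Γ(X, U)) (s : Γ(M, U)) :
    pullSec f M (r • s) = f.app U r • pullSec f M s :=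
  Scheme.Modules.Hom.app_smul _ r s

theorem pullToSky_app {U : X.Opens} (s : Γ(M, U)) :
    (pullToSky f y M).app (f ⁻¹ᵁ U) (pullSec f M s) = (toPushSky f y M).app U s := by
  have h := congrArg (fun φ => φ.app U s)
    (((Scheme.Modules.pullbackPushforwardAdjunction f).homEquiv _ _).apply_symm_apply (toPushSky f y M))
  simp only [Adjunction.homEquiv_unit] at h
  exact h

/-- Module structure over `O_{X, f y}` on the stalk of a module on `Y`. -/
noncomputable instance stMod (N : Y.Modules) :
    Module (X.presheaf.stalk (f y)) (N.presheaf.stalk y : Type u) :=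
  Module.compHom _ (f.stalkMap y).hom

instance stTower (N : Y.Modules) :
    IsScalarTower (X.presheaf.stalk (f y)) (Y.presheaf.stalk y) (N.presheaf.stalk y : Type u) :=
  IsScalarTower.of_algebraMap_smul fun _ _ => rfl

/-- `M_{f y} → (f^* M)_y`, as an additive map. -/
noncomputable def stalkUnitHom :
    (M.presheaf.stalk (f y) : Type u) →+ (((Scheme.Modules.pullback f).obj M).presheaf.stalk y : Type u) :=
  (TopCat.Presheaf.stalkPushforward AddCommGrpCat.{u} f.base ((Scheme.Modules.pullback f).obj M).presheaf y).hom.comp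
    ((M1.stalkAb (f y)).map ((Scheme.Modules.pullbackPushforwardAdjunction f).unit.app M)).hom

theorem stalkUnitHom_germ {U : X.Opens} (h : f y ∈ U) (s : Γ(M, U)) :
    stalkUnitHom f y M (M.presheaf.germ U (f y) h s) =
      ((Scheme.Modules.pullback f).obj M).presheaf.germ (f ⁻¹ᵁ U) y h (pullSec f M s) := by
  refine Eq.trans (congrArg (TopCat.Presheaf.stalkPushforward AddCommGrpCat.{u} f.base
    ((Scheme.Modules.pullback f).obj M).presheaf y) (TopCat.Presheaf.stalkFunctor_map_germ_apply U (f y) h
    ((Scheme.Modules.toPresheaf X).map ((Scheme.Modules.pullbackPushforwardAdjunction f).unit.app M)) s)) ?_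
  exact ConcreteCategory.congr_hom
    (TopCat.Presheaf.stalkPushforward_germ AddCommGrpCat.{u} f.base
      ((Scheme.Modules.pullback f).obj M).presheaf U y h) _

/-- `M_{f y} → (f^* M)_y`. -/
noncomputable def stalkUnit :
    (M.presheaf.stalk (f y) : Type u) →ₗ[X.presheaf.stalk (f y)]
      (((Scheme.Modules.pullback f).obj M).presheaf.stalk y : Type u) where
  toFun := stalkUnitHom f y M
  map_add' := map_add _
  map_smul' r a := by
    obtain ⟨U, hU, s, rfl⟩ := M.presheaf.germ_exist a
    obtain ⟨V, hV, c, rfl⟩ := X.presheaf.germ_exist r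
    have hW : f y ∈ U ⊓ V := ⟨hU, hV⟩
    rw [← TopCat.Presheaf.germ_res_apply M.presheaf (homOfLE (inf_le_left : U ⊓ V ≤ U)) (f y) hW s,
      ← TopCat.Presheaf.germ_res_apply X.presheaf (homOfLE (inf_le_right : U ⊓ V ≤ V)) (f y) hW c,
      RingHom.id_apply]
    refine Eq.trans (congrArg (stalkUnitHom f y M) (sg_smul (pm M) hW _ _).symm) ?_
    refine (stalkUnitHom_germ f y M hW _).trans ?_
    rw [stalkUnitHom_germ, pullSec_smul]
    refine (sg_smul (pm ((Scheme.Modules.pullback f).obj M)) (U := f ⁻¹ᵁ (U ⊓ V)) (x := y) hW _ _).trans ?_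
    refine Eq.trans ?_ (algebraMap_smul (M := (((Scheme.Modules.pullback f).obj M).presheaf.stalk y : Type u)) (Y.presheaf.stalk y) _ _)
    rw [algebraMap_stAlg, Scheme.Hom.germ_stalkMap_apply]
    rfl

/-- The base change map. -/
noncomputable def pullStalkMap :
    BC f y M →ₗ[Y.presheaf.stalk y] (((Scheme.Modules.pullback f).obj M).presheaf.stalk y : Type u) :=
  (stalkUnit f y M).liftBaseChange (Y.presheaf.stalk y)

theorem pullStalkMap_tmul {U : X.Opens} (h : f y ∈ U) (s : Γ(M, U)) :
    pullStalkMap f y M (1 ⊗ₜ M.presheaf.germ U (f y) h s) =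
      ((Scheme.Modules.pullback f).obj M).presheaf.germ (f ⁻¹ᵁ U) y h (pullSec f M s) := by
  refine (LinearMap.liftBaseChange_one_tmul _ _ _).trans ?_
  exact stalkUnitHom_germ f y M h s

theorem pullToSky_skyMap : pullToSky f y M ≫ skyMap (pullStalkMap f y M) = toSky y _ := by
  refine ((Scheme.Modules.pullbackPushforwardAdjunction f).homEquiv _ _).injective ?_
  refine Scheme.Modules.hom_ext _ _ fun U => ?_
  ext s
  rw [Adjunction.homEquiv_unit, Adjunction.homEquiv_unit]
  refine sky_ext (U := f ⁻¹ᵁ U) y _ _ _ fun h => ?_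
  change skyEvalAt y _ h ((skyMap (pullStalkMap f y M)).app (f ⁻¹ᵁ U)
    ((pullToSky f y M).app (f ⁻¹ᵁ U) (pullSec f M s))) = skyEvalAt y _ h ((toSky y _).app _ (pullSec f M s))
  rw [skyMap_app, toSky_app, pullToSky_app, toPushSky_app, pullStalkMap_tmul]

/-- The inverse of the base change map, as an additive map. -/
noncomputable def pullStalkInv :
    (((Scheme.Modules.pullback f).obj M).presheaf.stalk y : Type u) →+ BC f y M :=
  (skyEval y (BC f y M)).comp ((M1.stalkAb y).map (pullToSky f y M)).hom

theorem pullStalkInv_germ {V : Y.Opens} (h : y ∈ V) (z : Γ((Scheme.Modules.pullback f).obj M, V)) :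
    pullStalkInv f y M (((Scheme.Modules.pullback f).obj M).presheaf.germ V y h z) =
      skyEvalAt y (BC f y M) h ((pullToSky f y M).app V z) := by
  refine Eq.trans (congrArg (skyEval y (BC f y M)) (TopCat.Presheaf.stalkFunctor_map_germ_apply V y h
    ((Scheme.Modules.toPresheaf Y).map (pullToSky f y M)) z)) ?_
  exact skyEval_germ y _ h _

theorem pullStalkMap_inv (a : (((Scheme.Modules.pullback f).obj M).presheaf.stalk y : Type u)) :
    pullStalkMap f y M (pullStalkInv f y M a) = a := by
  obtain ⟨V, h, z, rfl⟩ := ((Scheme.Modules.pullback f).obj M).presheaf.germ_exist a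
  rw [pullStalkInv_germ]
  have e := congrArg (fun φ => skyEvalAt y _ h (φ.app V z)) (pullToSky_skyMap f y M)
  exact e

theorem pullStalkInv_smul (r : Y.presheaf.stalk y)
    (a : (((Scheme.Modules.pullback f).obj M).presheaf.stalk y : Type u)) :
    pullStalkInv f y M (r • a) = r • pullStalkInv f y M a := by
  obtain ⟨U, hU, z, rfl⟩ := ((Scheme.Modules.pullback f).obj M).presheaf.germ_exist a
  obtain ⟨V, hV, c, rfl⟩ := Y.presheaf.germ_exist r
  have hW : y ∈ U ⊓ V := ⟨hU, hV⟩
  rw [← TopCat.Presheaf.germ_res_apply ((Scheme.Modules.pullback f).obj M).presheaf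
      (homOfLE (inf_le_left : U ⊓ V ≤ U)) y hW z,
    ← TopCat.Presheaf.germ_res_apply Y.presheaf (homOfLE (inf_le_right : U ⊓ V ≤ V)) y hW c]
  refine Eq.trans (congrArg (pullStalkInv f y M) (sg_smul (pm _) hW _ _).symm) ?_
  refine (pullStalkInv_germ f y M hW _).trans ?_
  rw [pullStalkInv_germ, Scheme.Modules.Hom.app_smul]
  rfl

theorem pullStalkInv_map (b : BC f y M) : pullStalkInv f y M (pullStalkMap f y M b) = b := by
  induction b using TensorProduct.induction_on with
  | zero => rw [map_zero, map_zero]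
  | tmul c a =>
    obtain ⟨U, h, s, rfl⟩ := M.presheaf.germ_exist a
    have e : c ⊗ₜ[X.presheaf.stalk (f y)] M.presheaf.germ U (f y) h s =
        c • ((1 : Y.presheaf.stalk y) ⊗ₜ[X.presheaf.stalk (f y)] M.presheaf.germ U (f y) h s) := by
      rw [TensorProduct.smul_tmul', smul_eq_mul, mul_one]
    rw [e, map_smul, pullStalkInv_smul, pullStalkMap_tmul, pullStalkInv_germ, pullToSky_app,
      toPushSky_app]
  | add a b ha hb => rw [map_add, map_add, ha, hb]

/-- The stalk of the pullback is the base change of the stalk. -/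
noncomputable def pullStalkEquiv :
    BC f y M ≃ₗ[Y.presheaf.stalk y] (((Scheme.Modules.pullback f).obj M).presheaf.stalk y : Type u) :=
  { pullStalkMap f y M with
    invFun := pullStalkInv f y M
    left_inv := pullStalkInv_map f y M
    right_inv := pullStalkMap_inv f y M }

theorem pullStalkEquiv_tmul {U : X.Opens} (h : f y ∈ U) (s : Γ(M, U)) :
    pullStalkEquiv f y M (1 ⊗ₜ M.presheaf.germ U (f y) h s) =
      ((Scheme.Modules.pullback f).obj M).presheaf.germ (f ⁻¹ᵁ U) y h (pullSec f M s) :=
  pullStalkMap_tmul f y M h s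

/-- The stalk of the pullback is a base change. -/
theorem isBaseChange_stalkUnit : IsBaseChange (Y.presheaf.stalk y) (stalkUnit f y M) := by
  refine IsBaseChange.of_equiv (pullStalkEquiv f y M) fun a => ?_
  exact LinearMap.liftBaseChange_one_tmul _ _ _

end Pull

end Groth.Agent.M2
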