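import Groth.Agent.Lib.TensorMod.Basic

/-!
Morphisms out of `CohB1.tensorMod` from compatible bilinear maps; extensionality on pure tensors;
compatibility of the structural isomorphisms with pure tensors.
-/

universe u

open CategoryTheory MonoidalCategory Limits AlgebraicGeometry TopologicalSpace Opposite TensorProduct

set_option backward.isDefEq.respectTransparency false

namespace Groth.Agent.M2

variable {X : Scheme.{u}} {L M N K : X.Modules}

/-- The sectionwise tensor product, as a presheaf of `O_X`-modules. -/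
noncomputable abbrev pre (M N : X.Modules) : X.PresheafOfModules := CohB1.tensorPre M N

/-- Restriction of sections of a module. -/
noncomputable abbrev res (M : X.Modules) {U V : X.Opens} (h : V ≤ U) (s : Γ(M, U)) : Γ(M, V) :=
  M.presheaf.map (homOfLE h).op s

theorem tsec_add_left {U : X.Opens} (s s' : Γ(M, U)) (t : Γ(N, U)) :
    tsec M N (s + s') t = tsec M N s t + tsec M N s' t := by
  simp only [tsec]
  rw [add_tm]
  exact map_add _ _ _

theorem tsec_add_right {U : X.Opens} (s : Γ(M, U)) (t t' : Γ(N, U)) :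
    tsec M N s (t + t') = tsec M N s t + tsec M N s t' := by
  simp only [tsec]
  rw [tm_add]
  exact map_add _ _ _

theorem tsec_smul_left {U : X.Opens} (r : Γ(X, U)) (s : Γ(M, U)) (t : Γ(N, U)) :
    tsec M N (r • s) t = r • tsec M N s t :=
  ((unitS (pm M ⊗ pm N)).app (op U)).hom.map_smul r (tm (pm M) (pm N) s t)

theorem tsec_smul_right {U : X.Opens} (r : Γ(X, U)) (s : Γ(M, U)) (t : Γ(N, U)) :
    tsec M N s (r • t) = r • tsec M N s t := by
  rw [← tsec_smul_left]
  exact congrArg ((unitS (pm M ⊗ pm N)).app (op U)) (smul_tm (pm M) (pm N) r s t).symm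

theorem res_tsec {U V : X.Opens} (h : V ≤ U) (s : Γ(M, U)) (t : Γ(N, U)) :
    res _ h (tsec M N s t) = tsec M N (res M h s) (res N h t) :=
  (PresheafOfModules.naturality_apply (unitS (pm M ⊗ pm N)) (homOfLE h).op (tm (pm M) (pm N) s t)).symm.trans
    (congrArg ((unitS (pm M ⊗ pm N)).app (op V)) (rs_tm (pm M) (pm N) h s t))

theorem tensorMap_tsec {L' M' : X.Modules} (f : L ⟶ L') (g : M ⟶ M') {U : X.Opens} (s : Γ(L, U))
    (t : Γ(M, U)) : (tensorMap f g).app U (tsec L M s t) = tsec L' M' (f.app U s) (g.app U t) := by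
  have h := congrArg (fun φ => φ.app (op U) (tm (pm L) (pm M) s t))
    (unitS_naturality ((pmF X).map f ⊗ₘ (pmF X).map g))
  exact h.symm

theorem tensorMod_hom_ext {φ ψ : CohB1.tensorMod M N ⟶ K}
    (h : ∀ (U : X.Opens) (s : Γ(M, U)) (t : Γ(N, U)), φ.app U (tsec M N s t) = ψ.app U (tsec M N s t)) :
    φ = ψ := by
  refine ((adjS X).homEquiv (pre M N) K).injective ?_
  apply PresheafOfModules.hom_ext
  intro U
  refine ModuleCat.hom_ext (LinearMap.ext fun z => ?_)
  rw [Adjunction.homEquiv_unit, Adjunction.homEquiv_unit]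
  change φ.app U.unop ((unitS (pm M ⊗ pm N)).app U z) = ψ.app U.unop ((unitS (pm M ⊗ pm N)).app U z)
  induction z using tensor_induction (pm M) (pm N) (U := U.unop) with
  | zero =>
    rw [show (unitS (pm M ⊗ pm N)).app U 0 = 0 from map_zero _]
    simp
  | tm' s t => exact h U.unop s t
  | add a b ha hb =>
    rw [show (unitS (pm M ⊗ pm N)).app U (a + b) = _ + _ from map_add _ _ _, map_add, map_add, ha, hb]

/-- The data of a morphism out of a tensor product: compatible bilinear maps on sections. -/
structure BiMap (M N K : X.Modules) where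
  /-- The value on a pair of sections. -/
  f : ∀ (U : X.Opens), Γ(M, U) → Γ(N, U) → Γ(K, U)
  add_left : ∀ (U : X.Opens) (s s' : Γ(M, U)) (t : Γ(N, U)), f U (s + s') t = f U s t + f U s' t
  smul_left : ∀ (U : X.Opens) (r : Γ(X, U)) (s : Γ(M, U)) (t : Γ(N, U)), f U (r • s) t = r • f U s t
  add_right : ∀ (U : X.Opens) (s : Γ(M, U)) (t t' : Γ(N, U)), f U s (t + t') = f U s t + f U s t'
  smul_right : ∀ (U : X.Opens) (r : Γ(X, U)) (s : Γ(M, U)) (t : Γ(N, U)), f U s (r • t) = r • f U s t
  compat : ∀ {U V : X.Opens} (h : V ≤ U) (s : Γ(M, U)) (t : Γ(N, U)),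
    f V (res M h s) (res N h t) = res K h (f U s t)

/-- The section-wise component of `mkPre`. -/
noncomputable def mkPreApp (b : BiMap M N K) (U : X.Opens) :
    (pm M ⊗ pm N).obj (op U) ⟶ (pm K).obj (op U) :=
  ModuleCat.MonoidalCategory.tensorLift (R := X.presheaf.obj (op U))
    (M₁ := (pm M).obj (op U)) (M₂ := (pm N).obj (op U)) (M₃ := (pm K).obj (op U))
    (b.f U) (b.add_left U) (b.smul_left U) (b.add_right U) (b.smul_right U)

theorem mkPreApp_tm (b : BiMap M N K) (U : X.Opens) (s : Γ(M, U)) (t : Γ(N, U)) :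
    mkPreApp b U (tm (pm M) (pm N) s t) = b.f U s t := rfl

/-- A bilinear datum, as a morphism of presheaves of modules. -/
noncomputable def mkPre (b : BiMap M N K) : pm M ⊗ pm N ⟶ pm K where
  app U := mkPreApp b U.unop
  naturality {U V} i := ModuleCat.MonoidalCategory.tensor_ext (fun s t => by
    have h : V.unop ≤ U.unop := leOfHom i.unop
    change mkPreApp b V.unop (rs (pm M ⊗ pm N) h (tm (pm M) (pm N) s t)) =
      res K h (mkPreApp b U.unop (tm (pm M) (pm N) s t))
    rw [rs_tm, mkPreApp_tm, mkPreApp_tm]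
    exact b.compat h s t)

/-- A bilinear datum gives a morphism out of the tensor product. -/
noncomputable def mkHom (b : BiMap M N K) : CohB1.tensorMod M N ⟶ K :=
  ((adjS X).homEquiv (pre M N) K).symm (mkPre b)

theorem mkHom_tsec (b : BiMap M N K) {U : X.Opens} (s : Γ(M, U)) (t : Γ(N, U)) :
    (mkHom b).app U (tsec M N s t) = b.f U s t := by
  have h := congrArg (fun φ => φ.app (op U) (tm (pm M) (pm N) s t))
    (((adjS X).homEquiv (pre M N) K).apply_symm_apply (mkPre b))
  simp only [Adjunction.homEquiv_unit] at h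
  exact h

end Groth.Agent.M2
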