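import Groth.Agent.Lib.TensorMod.Restrict
import Groth.Agent.Lib.ModM1.Local
import Groth.Agent.Lib.ModM1.FT
import Groth.Prelude.Def_PicLoc
import Mathlib.CategoryTheory.Preadditive.AdditiveFunctor

/-!
Invertible and finite locally free modules: isomorphism invariance, restriction, pullback, tensor.
-/

universe u

open CategoryTheory MonoidalCategory Limits AlgebraicGeometry TopologicalSpace Opposite TensorProduct

set_option backward.isDefEq.respectTransparency false

namespace Groth.Agent.M2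

variable {X Y : Scheme.{u}}

/-- `(M|_U)|_W ≅ M|_W` for `W ≤ U`, through `homOfLE`. -/
noncomputable def restrictLEIso (M : X.Modules) {W U : X.Opens} (h : W ≤ U) :
    (M.restrict U.ι).restrict (X.homOfLE h) ≅ M.restrict W.ι :=
  M1.restrictRestrictIso M U.ι (X.homOfLE h) W.ι (X.homOfLE_ι h)

theorem isInvertible_of_iso {L M : X.Modules} (e : L ≅ M) (h : PicF.IsInvertible L) :
    PicF.IsInvertible M := fun y => by
  obtain ⟨U, hU, ⟨i⟩⟩ := h y
  exact ⟨U, hU, ⟨((Scheme.Modules.restrictFunctor U.ι).mapIso e).symm ≪≫ i⟩⟩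

/-- An invertible module stays trivial on a smaller open. -/
theorem nonempty_trivial_mono {L : X.Modules} {W U : X.Opens} (h : W ≤ U)
    (i : L.restrict U.ι ≅ Coh.structureModule (U : Scheme.{u})) :
    Nonempty (L.restrict W.ι ≅ Coh.structureModule (W : Scheme.{u})) :=
  ⟨(restrictLEIso L h).symm ≪≫ (Scheme.Modules.restrictFunctor _).mapIso i ≪≫
    Scheme.Modules.restrictUnitIso _⟩

/-- Invertible modules have a common trivialising neighbourhood. -/
theorem exists_common_trivial {L M : X.Modules} (hL : PicF.IsInvertible L) (hM : PicF.IsInvertible M)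
    (y : X) : ∃ W : X.Opens, y ∈ W ∧ Nonempty (L.restrict W.ι ≅ Coh.structureModule (W : Scheme.{u})) ∧
      Nonempty (M.restrict W.ι ≅ Coh.structureModule (W : Scheme.{u})) := by
  obtain ⟨U, hU, ⟨a⟩⟩ := hL y
  obtain ⟨V, hV, ⟨b⟩⟩ := hM y
  exact ⟨U ⊓ V, ⟨hU, hV⟩, nonempty_trivial_mono inf_le_left a, nonempty_trivial_mono inf_le_right b⟩

theorem isInvertible_tensor {L M : X.Modules} (hL : PicF.IsInvertible L) (hM : PicF.IsInvertible M) :
    PicF.IsInvertible (CohB1.tensorMod L M) := fun y => by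
  obtain ⟨W, hW, ⟨a⟩, ⟨b⟩⟩ := exists_common_trivial hL hM y
  exact ⟨W, hW, ⟨restrictTensorIso W.ι L M ≪≫ tensorIso a b ≪≫ tensorLUnit _⟩⟩

theorem isInvertible_tensorPow {L : X.Modules} (hL : PicF.IsInvertible L) :
    ∀ n, PicF.IsInvertible (CohB1.tensorPow L n)
  | 0 => PicLoc.isInvertible_structureModule X
  | n + 1 => isInvertible_tensor (isInvertible_tensorPow hL n) hL

theorem isInvertible_restrict {L : X.Modules} (hL : PicF.IsInvertible L) (j : Y ⟶ X) [IsOpenImmersion j] :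
    PicF.IsInvertible (L.restrict j) :=
  isInvertible_of_iso ((Scheme.Modules.restrictFunctorIsoPullback j).app L).symm
    (PicLoc.isInvertible_pullback j hL)

/-- `tensorPow L (m + n) ≅ tensorPow L m ⊗ tensorPow L n`. -/
noncomputable def tensorPowAdd (L : X.Modules) (m : ℕ) :
    ∀ n, CohB1.tensorPow L (m + n) ≅ CohB1.tensorMod (CohB1.tensorPow L m) (CohB1.tensorPow L n)
  | 0 => (tensorRUnit _).symm
  | n + 1 => tensorIso (tensorPowAdd L m n) (Iso.refl L) ≪≫ tensorAssoc _ _ _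

/-- `tensorPow L 1 ≅ L`. -/
noncomputable def tensorPowOne (L : X.Modules) : CohB1.tensorPow L 1 ≅ L := tensorLUnit L

/-- Functoriality of tensor powers in isomorphisms. -/
noncomputable def tensorPowIso {L L' : X.Modules} (e : L ≅ L') :
    ∀ n, CohB1.tensorPow L n ≅ CohB1.tensorPow L' n
  | 0 => Iso.refl _
  | n + 1 => tensorIso (tensorPowIso e n) e

/-- Powers of a tensor product. -/
noncomputable def tensorPowMul (L M : X.Modules) :
    ∀ n, CohB1.tensorPow (CohB1.tensorMod L M) n ≅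
      CohB1.tensorMod (CohB1.tensorPow L n) (CohB1.tensorPow M n)
  | 0 => (tensorLUnit _).symm
  | n + 1 => tensorIso (tensorPowMul L M n) (Iso.refl _) ≪≫ tensorInterchange _ _ _ _

/-- `tensorPow (tensorPow L m) n ≅ tensorPow L (m * n)`. -/
noncomputable def tensorPowPow (L : X.Modules) (m : ℕ) :
    ∀ n, CohB1.tensorPow (CohB1.tensorPow L m) n ≅ CohB1.tensorPow L (m * n)
  | 0 => Iso.refl _
  | n + 1 => tensorIso (tensorPowPow L m n) (Iso.refl _) ≪≫ (tensorPowAdd L (m * n) m).symm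

/-- Restriction commutes with tensor powers. -/
noncomputable def restrictTensorPowIso (j : Y ⟶ X) [IsOpenImmersion j] (L : X.Modules) :
    ∀ n, (CohB1.tensorPow L n).restrict j ≅ CohB1.tensorPow (L.restrict j) n
  | 0 => Scheme.Modules.restrictUnitIso j
  | n + 1 => restrictTensorIso j _ _ ≪≫ tensorIso (restrictTensorPowIso j L n) (Iso.refl _)

/-- Tensoring with a fixed module on the right. -/
noncomputable def tensorR (N : X.Modules) : X.Modules ⥤ X.Modules where
  obj M := CohB1.tensorMod M N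
  map f := tensorMap f (𝟙 N)
  map_id M := tensorMap_id M N
  map_comp f g := by rw [← tensorMap_comp, Category.comp_id]

instance tensorR_additive (N : X.Modules) : (tensorR N).Additive where
  map_add {M M' f g} := by
    refine tensorMod_hom_ext fun U s t => ?_
    change (tensorMap (f + g) (𝟙 N)).app U (tsec M N s t) =
      (tensorMap f (𝟙 N) + tensorMap g (𝟙 N)).app U (tsec M N s t)
    rw [tensorMap_tsec, Scheme.Modules.Hom.add_app, Scheme.Modules.Hom.add_app]
    change tsec M' N (f.app U s + g.app U s) _ =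
      (tensorMap f (𝟙 N)).app U (tsec M N s t) + (tensorMap g (𝟙 N)).app U (tsec M N s t)
    rw [tensorMap_tsec, tensorMap_tsec, tsec_add_left]

/-- Free modules restrict to free modules. -/
noncomputable def freeModRestrictIso (j : Y ⟶ X) [IsOpenImmersion j] (n : ℕ) :
    (FlatMod.freeMod X n).restrict j ≅ FlatMod.freeMod Y n :=
  PreservesCoproduct.iso (Scheme.Modules.restrictFunctor j) _ ≪≫
    Sigma.mapIso (fun _ => Scheme.Modules.restrictUnitIso j)

/-- Free modules pull back to free modules. -/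
noncomputable def freeModPullbackIso (f : Y ⟶ X) (n : ℕ) :
    (Scheme.Modules.pullback f).obj (FlatMod.freeMod X n) ≅ FlatMod.freeMod Y n :=
  PreservesCoproduct.iso (Scheme.Modules.pullback f) _ ≪≫
    Sigma.mapIso (fun _ => PicLoc.pullbackStructureIso f)

/-- The tensor product of free modules. -/
noncomputable def freeModTensorIso (X : Scheme.{u}) (m : ℕ) (N : X.Modules) :
    CohB1.tensorMod (FlatMod.freeMod X m) N ≅ ∐ fun _ : Fin m => N :=
  PreservesCoproduct.iso (tensorR N) _ ≪≫ Sigma.mapIso (fun _ => tensorLUnit N)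

/-- `O^m ⊗ O^n ≅ O^(mn)`. -/
noncomputable def freeModMulIso (X : Scheme.{u}) (m n : ℕ) :
    CohB1.tensorMod (FlatMod.freeMod X m) (FlatMod.freeMod X n) ≅ FlatMod.freeMod X (m * n) :=
  freeModTensorIso X m _ ≪≫
    sigmaSigmaIso (fun _ : Fin m => Fin n) (fun _ _ => Coh.structureModule X) ≪≫
    Sigma.whiskerEquiv (f := fun _ : (_ : Fin m) × Fin n => Coh.structureModule X)
      (g := fun _ : Fin (m * n) => Coh.structureModule X)
      ((Equiv.sigmaEquivProd (Fin m) (Fin n)).trans finProdFinEquiv) (fun _ => Iso.refl _)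

theorem isFinLocFreeOfRank_of_iso {n : ℕ} {L M : X.Modules} (e : L ≅ M)
    (h : FlatMod.IsFinLocFreeOfRank n L) : FlatMod.IsFinLocFreeOfRank n M := fun y => by
  obtain ⟨U, hU, ⟨i⟩⟩ := h y
  exact ⟨U, hU, ⟨((Scheme.Modules.restrictFunctor U.ι).mapIso e).symm ≪≫ i⟩⟩

theorem isFinLocFree_of_iso {L M : X.Modules} (e : L ≅ M) (h : FlatMod.IsFinLocFree L) :
    FlatMod.IsFinLocFree M := fun y => by
  obtain ⟨U, n, hU, ⟨i⟩⟩ := h y
  exact ⟨U, n, hU, ⟨((Scheme.Modules.restrictFunctor U.ι).mapIso e).symm ≪≫ i⟩⟩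

theorem isFinLocFree_of_ofRank {n : ℕ} {M : X.Modules} (h : FlatMod.IsFinLocFreeOfRank n M) :
    FlatMod.IsFinLocFree M := fun y => by
  obtain ⟨U, hU, i⟩ := h y
  exact ⟨U, n, hU, i⟩

theorem isFinLocFreeOfRank_freeMod (X : Scheme.{u}) (n : ℕ) :
    FlatMod.IsFinLocFreeOfRank n (FlatMod.freeMod X n) :=
  fun _ => ⟨⊤, trivial, ⟨freeModRestrictIso _ n⟩⟩

/-- A module free on an open stays free on a smaller open. -/
theorem nonempty_free_mono {M : X.Modules} {n : ℕ} {W U : X.Opens} (h : W ≤ U)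
    (i : M.restrict U.ι ≅ FlatMod.freeMod (U : Scheme.{u}) n) :
    Nonempty (M.restrict W.ι ≅ FlatMod.freeMod (W : Scheme.{u}) n) :=
  ⟨(restrictLEIso M h).symm ≪≫ (Scheme.Modules.restrictFunctor _).mapIso i ≪≫ freeModRestrictIso _ n⟩

/-- The free module of rank one. -/
noncomputable def freeModOneIso (X : Scheme.{u}) : FlatMod.freeMod X 1 ≅ Coh.structureModule X :=
  coproductUniqueIso (fun _ : Fin 1 => Coh.structureModule X)

theorem isInvertible_iff_isFinLocFreeOfRank_one (L : X.Modules) :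
    PicF.IsInvertible L ↔ FlatMod.IsFinLocFreeOfRank 1 L :=
  ⟨fun h y => let ⟨U, hU, ⟨i⟩⟩ := h y; ⟨U, hU, ⟨i ≪≫ (freeModOneIso _).symm⟩⟩,
    fun h y => let ⟨U, hU, ⟨i⟩⟩ := h y; ⟨U, hU, ⟨i ≪≫ freeModOneIso _⟩⟩⟩

theorem isFinLocFree_of_isInvertible {L : X.Modules} (h : PicF.IsInvertible L) : FlatMod.IsFinLocFree L :=
  isFinLocFree_of_ofRank ((isInvertible_iff_isFinLocFreeOfRank_one L).mp h)

theorem isFinLocFreeOfRank_tensor {m n : ℕ} {M N : X.Modules} (hM : FlatMod.IsFinLocFreeOfRank m M)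
    (hN : FlatMod.IsFinLocFreeOfRank n N) : FlatMod.IsFinLocFreeOfRank (m * n) (CohB1.tensorMod M N) :=
  fun y => by
    obtain ⟨U, hU, ⟨a⟩⟩ := hM y
    obtain ⟨V, hV, ⟨b⟩⟩ := hN y
    obtain ⟨a'⟩ := nonempty_free_mono (inf_le_left : U ⊓ V ≤ U) a
    obtain ⟨b'⟩ := nonempty_free_mono (inf_le_right : U ⊓ V ≤ V) b
    exact ⟨U ⊓ V, ⟨hU, hV⟩, ⟨restrictTensorIso _ M N ≪≫ tensorIso a' b' ≪≫ freeModMulIso _ m n⟩⟩

theorem isFinLocFree_tensor {M N : X.Modules} (hM : FlatMod.IsFinLocFree M) (hN : FlatMod.IsFinLocFree N) :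
    FlatMod.IsFinLocFree (CohB1.tensorMod M N) := fun y => by
  obtain ⟨U, m, hU, ⟨a⟩⟩ := hM y
  obtain ⟨V, n, hV, ⟨b⟩⟩ := hN y
  obtain ⟨a'⟩ := nonempty_free_mono (inf_le_left : U ⊓ V ≤ U) a
  obtain ⟨b'⟩ := nonempty_free_mono (inf_le_right : U ⊓ V ≤ V) b
  exact ⟨U ⊓ V, m * n, ⟨hU, hV⟩, ⟨restrictTensorIso _ M N ≪≫ tensorIso a' b' ≪≫ freeModMulIso _ m n⟩⟩

/-- Pullback commutes with restriction. -/
noncomputable def pullbackRestrictIso (f : Y ⟶ X) (M : X.Modules) (D : X.Opens) :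
    ((Scheme.Modules.pullback f).obj M).restrict (f ⁻¹ᵁ D).ι ≅
      (Scheme.Modules.pullback (f ∣_ D)).obj (M.restrict D.ι) :=
  (Scheme.Modules.restrictFunctorIsoPullback (f ⁻¹ᵁ D).ι).app _ ≪≫
    (Scheme.Modules.pullbackComp (f ⁻¹ᵁ D).ι f).app M ≪≫
    (Scheme.Modules.pullbackCongr (morphismRestrict_ι f D).symm).app M ≪≫
    ((Scheme.Modules.pullbackComp (f ∣_ D) D.ι).app M).symm ≪≫
    (Scheme.Modules.pullback (f ∣_ D)).mapIso ((Scheme.Modules.restrictFunctorIsoPullback D.ι).app M).symm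

theorem isFinLocFreeOfRank_pullback (f : Y ⟶ X) {n : ℕ} {M : X.Modules}
    (h : FlatMod.IsFinLocFreeOfRank n M) :
    FlatMod.IsFinLocFreeOfRank n ((Scheme.Modules.pullback f).obj M) := fun y => by
  obtain ⟨U, hU, ⟨i⟩⟩ := h (f y)
  exact ⟨f ⁻¹ᵁ U, hU, ⟨pullbackRestrictIso f M U ≪≫ (Scheme.Modules.pullback _).mapIso i ≪≫
    freeModPullbackIso _ n⟩⟩

theorem isFinLocFree_pullback (f : Y ⟶ X) {M : X.Modules} (h : FlatMod.IsFinLocFree M) :
    FlatMod.IsFinLocFree ((Scheme.Modules.pullback f).obj M) := fun y => by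
  obtain ⟨U, n, hU, ⟨i⟩⟩ := h (f y)
  exact ⟨f ⁻¹ᵁ U, n, hU, ⟨pullbackRestrictIso f M U ≪≫ (Scheme.Modules.pullback _).mapIso i ≪≫
    freeModPullbackIso _ n⟩⟩

theorem isFinLocFree_restrict (j : Y ⟶ X) [IsOpenImmersion j] {M : X.Modules} (h : FlatMod.IsFinLocFree M) :
    FlatMod.IsFinLocFree (M.restrict j) :=
  isFinLocFree_of_iso ((Scheme.Modules.restrictFunctorIsoPullback j).app M).symm (isFinLocFree_pullback j h)

theorem isQCoh_of_isFinLocFree {M : X.Modules} (h : FlatMod.IsFinLocFree M) : Coh.IsQCoh M := by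
  choose U n hU e using h
  refine M1.isQCoh_of_openImmersion_cover (fun x => (U x).ι)
    (fun x => ⟨x, by rw [Scheme.Opens.range_ι]; exact hU x⟩) fun x => ?_
  exact M1.isQCoh_of_isIso (e x).some.symm (isQCoh_freeMod _ _)
where
  isQCoh_freeMod (Z : Scheme.{u}) (k : ℕ) : Coh.IsQCoh (FlatMod.freeMod Z k) :=
    M1.isQCoh_of_isIso (Sigma.whiskerEquiv (f := fun _ : Fin k => Coh.structureModule Z)
      (g := fun _ : ULift.{u} (Fin k) => Coh.structureModule Z) Equiv.ulift.symm (fun _ => Iso.refl _)).symm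
      (M1.isQCoh_fr Z (ULift.{u} (Fin k)))

end Groth.Agent.M2
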