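import Groth.Agent.Lib.TensorMod.Dual
import Groth.Agent.Lib.ModM1.Push
import Groth.Agent.Lib.Twist.Triv
import Groth.Prelude.Def_ClSub2
import Groth.Prelude.Def_BlowUp2

/-!
Basic properties of `ClSub.idealMod`.
-/

universe u

open CategoryTheory Limits AlgebraicGeometry TopologicalSpace Opposite

set_option backward.isDefEq.respectTransparency false

namespace Groth.Agent.M2

variable {X : Scheme.{u}} (I : X.IdealSheafData)

/-- The inclusion of the ideal module on sections, as functions into `Γ(X, U)`. -/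
noncomputable def idealIncl {U : X.Opens} (a : Γ(ClSub.idealMod I, U)) : Γ(X, U) :=
  (ClSub.idealModι I).app U a

theorem idealIncl_add {U : X.Opens} (a b : Γ(ClSub.idealMod I, U)) :
    idealIncl I (a + b) = idealIncl I a + idealIncl I b :=
  map_add ((ClSub.idealModι I).app U).hom a b

theorem idealIncl_smul {U : X.Opens} (r : Γ(X, U)) (a : Γ(ClSub.idealMod I, U)) :
    idealIncl I (r • a) = r * idealIncl I a :=
  Scheme.Modules.Hom.app_smul (ClSub.idealModι I) r a

theorem idealIncl_res {U V : X.Opens} (h : V ≤ U) (a : Γ(ClSub.idealMod I, U)) :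
    idealIncl I (res _ h a) = X.presheaf.map (homOfLE h).op (idealIncl I a) :=
  M1.map_app_eq (ClSub.idealModι I) h a

theorem idealIncl_injective (U : X.Opens) : Function.Injective (idealIncl I (U := U)) := by
  haveI : Mono (ClSub.idealModι I) := inferInstanceAs (Mono (kernel.ι (ClSub.toSubscheme I)))
  exact M1.app_injective (ClSub.idealModι I) U

theorem subschemeι_app_idealIncl {U : X.Opens} (a : Γ(ClSub.idealMod I, U)) :
    I.subschemeι.app U (idealIncl I a) = 0 := by
  have h := congrArg (fun φ => φ.app U a) (kernel.condition (ClSub.toSubscheme I))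
  exact h

theorem exists_idealIncl_eq {U : X.Opens} (s : Γ(X, U)) (hs : I.subschemeι.app U s = 0) :
    ∃ a, idealIncl I (U := U) a = s :=
  M1.sections_exact (S := ShortComplex.mk (kernel.ι (ClSub.toSubscheme I)) (ClSub.toSubscheme I)
    (kernel.condition _)) (ShortComplex.exact_of_f_is_kernel _ (kernelIsKernel _)) U s hs

/-- On an affine open the sections of the ideal module are the ideal. -/
theorem range_idealIncl (U : X.affineOpens) :
    Set.range (idealIncl I (U := U.1)) = (I.ideal U : Set Γ(X, U.1)) := by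
  have hker : ∀ s : Γ(X, U.1), s ∈ I.ideal U ↔ I.subschemeι.app U.1 s = 0 := fun s => by
    conv_lhs => rw [← I.ker_subschemeι, Scheme.Hom.ker_apply]
    exact RingHom.mem_ker
  ext s
  exact ⟨fun ⟨a, ha⟩ => (hker s).mpr (ha ▸ subschemeι_app_idealIncl I a),
    fun h => exists_idealIncl_eq I s ((hker s).mp h)⟩

theorem isQCoh_idealMod : Coh.IsQCoh (ClSub.idealMod I) :=
  M1.isQCoh_kernel (M1.isQCoh_structureModule X) (M1.isQCoh_push _ (M1.isQCoh_structureModule _)) _

instance epi_toSubscheme : Epi (ClSub.toSubscheme I) := by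
  refine (M1.epi_iff_locally_surjective _).mpr fun U t x hx => ?_
  obtain ⟨W, hW, hxW, hWU⟩ := exists_isAffineOpen_mem_and_subset hx
  obtain ⟨s, hs⟩ := I.subschemeι_app_surjective ⟨W, hW⟩
    (((Scheme.Modules.pushforward I.subschemeι).obj (Coh.structureModule I.subscheme)).presheaf.map
      (homOfLE hWU).op t)
  exact ⟨W, hWU, hxW, s, hs⟩

theorem shortExact_idealMod :
    (ShortComplex.mk (ClSub.idealModι I) (ClSub.toSubscheme I) (kernel.condition _)).ShortExact :=
  { exact := ShortComplex.exact_of_f_is_kernel _ (kernelIsKernel _)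
    mono_f := inferInstanceAs (Mono (kernel.ι (ClSub.toSubscheme I)))
    epi_g := epi_toSubscheme I }

/-- The ideal module of a principal ideal generated by a nonzerodivisor is free of rank one. -/
theorem isGenerator_idealMod {U : X.affineOpens} (f : Γ(X, U.1)) (hf : f ∈ nonZeroDivisors Γ(X, U.1))
    (hI : I.ideal U = Ideal.span {f}) (a : Γ(ClSub.idealMod I, U.1)) (ha : idealIncl I a = f) :
    ∀ W : X.Opens, ∀ hW : W ≤ U.1, Function.Bijective fun r : Γ(X, W) => r • res _ hW a := by
  have hbasic : ∀ g : Γ(X, U.1), Function.Bijective fun r : Γ(X, X.basicOpen g) =>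
      r • res (ClSub.idealMod I) (X.basicOpen_le g) a := by
    intro g
    letI : Algebra Γ(X, U.1) Γ(X, X.basicOpen g) :=
      (X.presheaf.map (homOfLE (X.basicOpen_le g)).op).hom.toAlgebra
    haveI : IsLocalization.Away g Γ(X, X.basicOpen g) := U.2.isLocalization_basicOpen g
    have hnz : X.presheaf.map (homOfLE (X.basicOpen_le g)).op f ∈ nonZeroDivisors Γ(X, X.basicOpen g) :=
      IsLocalization.map_nonZeroDivisors_le (.powers g) _ ⟨f, hf, rfl⟩
    have hev : ∀ r : Γ(X, X.basicOpen g), idealIncl I (r • res (ClSub.idealMod I) (X.basicOpen_le g) a) =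
        r * X.presheaf.map (homOfLE (X.basicOpen_le g)).op f := fun r => by
      rw [idealIncl_smul, idealIncl_res, ha]
    refine ⟨fun r r' hr => ?_, fun b => ?_⟩
    · have := congrArg (idealIncl I) hr
      rw [hev, hev] at this
      exact (mul_cancel_right_mem_nonZeroDivisors hnz).mp this
    · have hb : idealIncl I b ∈ I.ideal (X.affineBasicOpen g) :=
        (range_idealIncl I (X.affineBasicOpen g)).le ⟨b, rfl⟩
      rw [← I.map_ideal (X.affineBasicOpen_le g), hI, Ideal.map_span, Set.image_singleton,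
        Ideal.mem_span_singleton'] at hb
      obtain ⟨r, hr⟩ := hb
      exact ⟨r, idealIncl_injective I _ ((hev r).trans hr)⟩
  intro W hW
  have hcov : ∀ x ∈ W, ∃ g : Γ(X, U.1), X.basicOpen g ≤ W ∧ x ∈ X.basicOpen g := fun x hx =>
    U.2.exists_basicOpen_le (V := W) ⟨x, hx⟩ (hW hx)
  choose g hgW hxg using hcov
  let D : {x // x ∈ W} → X.Opens := fun x => X.basicOpen (g x.1 x.2)
  have hD : W ≤ ⨆ x, D x := fun x hx => Opens.mem_iSup.mpr ⟨⟨x, hx⟩, hxg x hx⟩
  have hres : ∀ (r : Γ(X, W)) (x : {x // x ∈ W}),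
      res (ClSub.idealMod I) (hgW x.1 x.2) (r • res _ hW a) =
        X.presheaf.map (homOfLE (hgW x.1 x.2)).op r • res (ClSub.idealMod I) (X.basicOpen_le _) a := by
    intro r x
    refine (Scheme.Modules.map_smul _ (homOfLE (hgW x.1 x.2)) r _).trans ?_
    congr 1
    exact rs_rs (pm (ClSub.idealMod I)) _ _ a
  have hinj : ∀ (V : X.Opens) (x : {x // x ∈ W}) (hV : V ≤ D x), ∀ (q q' : Γ(X, V)),
      q • res (ClSub.idealMod I) (hV.trans (X.basicOpen_le _)) a = q' • res _ (hV.trans (X.basicOpen_le _)) a →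
      q = q' := by
    intro V x hV q q' hq
    have hc : ∀ y ∈ V, ∃ g' : Γ(X, U.1), X.basicOpen g' ≤ V ∧ y ∈ X.basicOpen g' := fun y hy =>
      U.2.exists_basicOpen_le (V := V) ⟨y, hy⟩ (X.basicOpen_le _ (hV hy))
    choose g' hg'V hyg' using hc
    refine TopCat.Sheaf.eq_of_locally_eq' X.sheaf (fun y : {y // y ∈ V} => X.basicOpen (g' y.1 y.2)) V
      (fun y => homOfLE (hg'V y.1 y.2)) (fun y hy => Opens.mem_iSup.mpr ⟨⟨y, hy⟩, hyg' y hy⟩) _ _
      fun y => (hbasic _).1 ?_
    have := congrArg (res (ClSub.idealMod I) (hg'V y.1 y.2)) hq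
    have e : ∀ w : Γ(X, V), res (ClSub.idealMod I) (hg'V y.1 y.2) (w • res _ (hV.trans (X.basicOpen_le _)) a) =
        X.presheaf.map (homOfLE (hg'V y.1 y.2)).op w • res (ClSub.idealMod I) (X.basicOpen_le _) a := fun w =>
      (Scheme.Modules.map_smul _ (homOfLE (hg'V y.1 y.2)) w _).trans
        (congrArg (fun z => X.presheaf.map (homOfLE (hg'V y.1 y.2)).op w • z) (rs_rs (pm (ClSub.idealMod I)) _ _ a))
    change X.presheaf.map (homOfLE (hg'V y.1 y.2)).op q • _ = X.presheaf.map (homOfLE (hg'V y.1 y.2)).op q' • _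
    rw [← e, ← e]
    exact this
  refine ⟨fun r r' hr => ?_, fun b => ?_⟩
  · refine TopCat.Sheaf.eq_of_locally_eq' X.sheaf D W (fun x => homOfLE (hgW x.1 x.2)) hD _ _
      fun x => (hbasic _).1 ?_
    change X.presheaf.map (homOfLE (hgW x.1 x.2)).op r • _ = X.presheaf.map (homOfLE (hgW x.1 x.2)).op r' • _
    rw [← hres, ← hres]
    exact congrArg (res (ClSub.idealMod I) (hgW x.1 x.2)) hr
  · choose c hc using fun x : {x // x ∈ W} => (hbasic (g x.1 x.2)).2 (res (ClSub.idealMod I) (hgW x.1 x.2) b)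
    obtain ⟨r, hr, -⟩ := TopCat.Sheaf.existsUnique_gluing' X.sheaf D W (fun x => homOfLE (hgW x.1 x.2)) hD c
      fun x y => hinj _ x inf_le_left _ _ (by
        have key : ∀ (z : {x // x ∈ W}) (hz : D x ⊓ D y ≤ D z),
            X.presheaf.map (homOfLE hz).op (c z) • res (ClSub.idealMod I) (hz.trans (X.basicOpen_le _)) a =
              res (ClSub.idealMod I) (hz.trans (hgW z.1 z.2)) b := by
          intro z hz
          refine Eq.trans ?_ ((congrArg (res (ClSub.idealMod I) hz) (hc z)).trans (rs_rs (pm _) _ _ b))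
          refine Eq.trans ?_ (Scheme.Modules.map_smul _ (homOfLE hz) (c z) _).symm
          congr 1
          exact (rs_rs (pm (ClSub.idealMod I)) _ _ a).symm
        exact (key x inf_le_left).trans (key y inf_le_right).symm)
    refine ⟨r, TopCat.Sheaf.eq_of_locally_eq' ⟨(ClSub.idealMod I).presheaf, (ClSub.idealMod I).isSheaf⟩ D W
      (fun x => homOfLE (hgW x.1 x.2)) hD _ _ fun x => ?_⟩
    refine (hres r x).trans ?_
    rw [show X.presheaf.map (homOfLE (hgW x.1 x.2)).op r = c x from hr x]
    exact hc x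

/-- The ideal module of an effective Cartier ideal is invertible. -/
theorem isInvertible_idealMod (h : BlowUp.IsEffCartierIdeal I) : PicF.IsInvertible (ClSub.idealMod I) := by
  intro x
  obtain ⟨U, hxU, f, hf, hI⟩ := h x
  obtain ⟨a, ha⟩ : f ∈ Set.range (idealIncl I (U := U.1)) := by
    rw [range_idealIncl, hI]
    exact Ideal.subset_span rfl
  exact ⟨U.1, hxU, Twist.nonempty_restrict_iso _ U.1 a (isGenerator_idealMod I f hf hI a ha)⟩

end Groth.Agent.M2
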