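import Groth.Agent.Lib.TensorMod.Hom

/-!
Restriction to an open subscheme commutes with `CohB1.tensorMod`; the comparison map for pullback.
-/

universe u

open CategoryTheory MonoidalCategory Limits AlgebraicGeometry TopologicalSpace Opposite TensorProduct

set_option backward.isDefEq.respectTransparency false

namespace Groth.Agent.M2

variable {X Y : Scheme.{u}}

theorem res_add (M : X.Modules) {U V : X.Opens} (h : V ≤ U) (s t : Γ(M, U)) :
    res M h (s + t) = res M h s + res M h t := map_add _ _ _

theorem res_smul (M : X.Modules) {U V : X.Opens} (h : V ≤ U) (r : Γ(X, U)) (s : Γ(M, U)) :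
    res M h (r • s) = X.presheaf.map (homOfLE h).op r • res M h s :=
  Scheme.Modules.map_smul M (homOfLE h) r s

theorem res_res (M : X.Modules) {U V W : X.Opens} (h : V ≤ U) (h' : W ≤ V) (s : Γ(M, U)) :
    res M h' (res M h s) = res M (h'.trans h) s :=
  rs_rs (pm M) h h' s

theorem res_self (M : X.Modules) {U : X.Opens} (h : U ≤ U) (s : Γ(M, U)) : res M h s = s := by
  change M.presheaf.map (homOfLE h).op s = s
  rw [show (homOfLE h).op = 𝟙 (op U) from rfl, CategoryTheory.Functor.map_id]
  rfl

/-- The lax structure of the direct image. -/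
noncomputable def laxBiMap (f : Y ⟶ X) (A B : Y.Modules) :
    BiMap ((Scheme.Modules.pushforward f).obj A) ((Scheme.Modules.pushforward f).obj B)
      ((Scheme.Modules.pushforward f).obj (CohB1.tensorMod A B)) where
  f U s t := tsec A B (U := f ⁻¹ᵁ U) s t
  add_left U s s' t := tsec_add_left (M := A) (N := B) (U := f ⁻¹ᵁ U) s s' t
  smul_left U r s t := tsec_smul_left (M := A) (N := B) (U := f ⁻¹ᵁ U) (f.app U r) s t
  add_right U s t t' := tsec_add_right (M := A) (N := B) (U := f ⁻¹ᵁ U) s t t'
  smul_right U r s t := tsec_smul_right (M := A) (N := B) (U := f ⁻¹ᵁ U) (f.app U r) s t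
  compat h s t := (res_tsec (M := A) (N := B) (f.preimage_mono h) s t).symm

/-- `f_* A ⊗ f_* B ⟶ f_* (A ⊗ B)`. -/
noncomputable def pushLax (f : Y ⟶ X) (A B : Y.Modules) :
    CohB1.tensorMod ((Scheme.Modules.pushforward f).obj A) ((Scheme.Modules.pushforward f).obj B) ⟶
      (Scheme.Modules.pushforward f).obj (CohB1.tensorMod A B) :=
  mkHom (laxBiMap f A B)

/-- The comparison `f^* (M ⊗ N) ⟶ f^* M ⊗ f^* N`. -/
noncomputable def pullCmp (f : Y ⟶ X) (M N : X.Modules) :
    (Scheme.Modules.pullback f).obj (CohB1.tensorMod M N) ⟶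
      CohB1.tensorMod ((Scheme.Modules.pullback f).obj M) ((Scheme.Modules.pullback f).obj N) :=
  ((Scheme.Modules.pullbackPushforwardAdjunction f).homEquiv _ _).symm
    (tensorMap ((Scheme.Modules.pullbackPushforwardAdjunction f).unit.app M)
      ((Scheme.Modules.pullbackPushforwardAdjunction f).unit.app N) ≫ pushLax f _ _)

section Restriction

variable (j : Y ⟶ X) [IsOpenImmersion j]

/-- `(M|_Y, N|_Y) → (M ⊗ N)|_Y`. -/
noncomputable def toRestrictBiMap (M N : X.Modules) :
    BiMap (M.restrict j) (N.restrict j) ((CohB1.tensorMod M N).restrict j) where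
  f W s t := tsec M N (U := j ''ᵁ W) s t
  add_left W s s' t := tsec_add_left (M := M) (N := N) (U := j ''ᵁ W) s s' t
  smul_left W r s t := tsec_smul_left (M := M) (N := N) (U := j ''ᵁ W) ((j.appIso W).inv r) s t
  add_right W s t t' := tsec_add_right (M := M) (N := N) (U := j ''ᵁ W) s t t'
  smul_right W r s t := tsec_smul_right (M := M) (N := N) (U := j ''ᵁ W) ((j.appIso W).inv r) s t
  compat h s t := (res_tsec (M := M) (N := N) (Scheme.Hom.image_mono j h) s t).symm

/-- `M|_Y ⊗ N|_Y ⟶ (M ⊗ N)|_Y`. -/
noncomputable def toRestrict (M N : X.Modules) :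
    CohB1.tensorMod (M.restrict j) (N.restrict j) ⟶ (CohB1.tensorMod M N).restrict j :=
  mkHom (toRestrictBiMap j M N)

theorem smul_res_preimage (M : X.Modules) (U : X.Opens) (r : Γ(X, U)) (s : Γ(M, U)) :
    res M (j.image_preimage_le U) (r • s) =
      ((j.appIso (j ⁻¹ᵁ U)).inv (j.app U r)) • res M (j.image_preimage_le U) s := by
  rw [res_smul]
  congr 1
  exact (ConcreteCategory.congr_hom (j.app_appIso_inv U) r).symm

/-- `(M, N) → j_* (M|_Y ⊗ N|_Y)`. -/
noncomputable def fromRestrictBiMap (M N : X.Modules) :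
    BiMap M N ((Scheme.Modules.pushforward j).obj (CohB1.tensorMod (M.restrict j) (N.restrict j))) where
  f U s t := tsec (M.restrict j) (N.restrict j) (U := j ⁻¹ᵁ U)
    (res M (j.image_preimage_le U) s) (res N (j.image_preimage_le U) t)
  add_left U s s' t := by
    rw [res_add]
    exact tsec_add_left (M := M.restrict j) (N := N.restrict j) (U := j ⁻¹ᵁ U) _ _ _
  smul_left U r s t := by
    rw [smul_res_preimage]
    exact tsec_smul_left (M := M.restrict j) (N := N.restrict j) (U := j ⁻¹ᵁ U) (j.app U r) _ _
  add_right U s t t' := by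
    rw [res_add]
    exact tsec_add_right (M := M.restrict j) (N := N.restrict j) (U := j ⁻¹ᵁ U) _ _ _
  smul_right U r s t := by
    rw [smul_res_preimage]
    exact tsec_smul_right (M := M.restrict j) (N := N.restrict j) (U := j ⁻¹ᵁ U) (j.app U r) _ _
  compat {U V} h s t := by
    rw [res_res, res_res]
    refine Eq.trans ?_
      (res_tsec (M := M.restrict j) (N := N.restrict j) (j.preimage_mono h) _ _).symm
    congr 1
    · exact (res_res M (j.image_preimage_le U) (Scheme.Hom.image_mono j (j.preimage_mono h)) s).symm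
    · exact (res_res N (j.image_preimage_le U) (Scheme.Hom.image_mono j (j.preimage_mono h)) t).symm

/-- `(M ⊗ N)|_Y ⟶ M|_Y ⊗ N|_Y`. -/
noncomputable def fromRestrict (M N : X.Modules) :
    (CohB1.tensorMod M N).restrict j ⟶ CohB1.tensorMod (M.restrict j) (N.restrict j) :=
  ((Scheme.Modules.restrictAdjunction j).homEquiv _ _).symm (mkHom (fromRestrictBiMap j M N))

theorem fromRestrict_app (M N : X.Modules) (W : Y.Opens) (z : Γ(CohB1.tensorMod M N, j ''ᵁ W)) :
    (fromRestrict j M N).app W z =
      res (CohB1.tensorMod (M.restrict j) (N.restrict j)) (j.preimage_image_eq W).ge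
        ((mkHom (fromRestrictBiMap j M N)).app (j ''ᵁ W) z) := by
  simp only [fromRestrict, Adjunction.homEquiv_counit, Scheme.Modules.Hom.comp_app]
  rfl

theorem toRestrict_fromRestrict (M N : X.Modules) : toRestrict j M N ≫ fromRestrict j M N = 𝟙 _ := by
  refine tensorMod_hom_ext fun W s t => ?_
  simp only [Scheme.Modules.Hom.comp_app, Scheme.Modules.Hom.id_app]
  change (fromRestrict j M N).app W ((toRestrict j M N).app W (tsec _ _ s t)) = tsec _ _ s t
  rw [toRestrict, mkHom_tsec]
  refine (fromRestrict_app j M N W _).trans ?_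
  erw [mkHom_tsec]
  refine (res_tsec (M := M.restrict j) (N := N.restrict j) _ _ _).trans ?_
  congr 1
  · exact (res_res M (j.image_preimage_le (j ''ᵁ W))
      (Scheme.Hom.image_mono j (j.preimage_image_eq W).ge) s).trans (res_self M _ s)
  · exact (res_res N (j.image_preimage_le (j ''ᵁ W))
      (Scheme.Hom.image_mono j (j.preimage_image_eq W).ge) t).trans (res_self N _ t)

theorem fromRestrict_toRestrict (M N : X.Modules) : fromRestrict j M N ≫ toRestrict j M N = 𝟙 _ := by
  refine ((Scheme.Modules.restrictAdjunction j).homEquiv _ _).injective ?_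
  refine tensorMod_hom_ext fun U s t => ?_
  rw [Adjunction.homEquiv_naturality_right, fromRestrict, Equiv.apply_symm_apply, Adjunction.homEquiv_id]
  simp only [Scheme.Modules.Hom.comp_app, Scheme.Modules.restrictAdjunction_unit_app_app]
  change (toRestrict j M N).app (j ⁻¹ᵁ U) ((mkHom (fromRestrictBiMap j M N)).app U (tsec M N s t)) =
    res (CohB1.tensorMod M N) (j.image_preimage_le U) (tsec M N s t)
  rw [mkHom_tsec, res_tsec]
  erw [toRestrict, mkHom_tsec]
  rfl

/-- Restriction commutes with tensor products. -/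
noncomputable def restrictTensorIso (M N : X.Modules) :
    (CohB1.tensorMod M N).restrict j ≅ CohB1.tensorMod (M.restrict j) (N.restrict j) where
  hom := fromRestrict j M N
  inv := toRestrict j M N
  hom_inv_id := fromRestrict_toRestrict j M N
  inv_hom_id := toRestrict_fromRestrict j M N

end Restriction

end Groth.Agent.M2
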