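import Groth.Agent.Lib.TensorMod.Tilde
import Groth.Agent.Lib.TensorMod.Restrict
import Groth.Agent.Lib.ModM1.Coh

/-!
Tensor products of quasi-coherent / finite type modules.
-/

universe u

open CategoryTheory Limits AlgebraicGeometry TopologicalSpace Opposite TensorProduct

set_option backward.isDefEq.respectTransparency false

namespace Groth.Agent.M2

variable {X : Scheme.{u}}

/-- On an affine scheme a tensor product of quasi-coherent modules is `tilde` of a tensor product. -/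
theorem exists_tilde_tensor_iso {R : CommRingCat.{u}} (F G : (Spec R).Modules) (hF : Coh.IsQCoh F)
    (hG : Coh.IsQCoh G) :
    ∃ (M N : ModuleCat.{u} R), Nonempty (tilde M ≅ F) ∧ Nonempty (tilde N ≅ G) ∧
      Nonempty (tilde (ModuleCat.of R (M ⊗[R] N)) ≅ CohB1.tensorMod F G) := by
  haveI := hF
  haveI := hG
  let a := @asIso _ _ _ _ F.fromTildeΓ (Scheme.Modules.isIso_fromTildeΓ_of_isQuasicoherent (R := R) F)
  let b := @asIso _ _ _ _ G.fromTildeΓ (Scheme.Modules.isIso_fromTildeΓ_of_isQuasicoherent (R := R) G)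
  exact ⟨_, _, ⟨a⟩, ⟨b⟩, ⟨tildeTensorIso _ _ ≪≫ tensorIso a b⟩⟩

/-- A tensor product of quasi-coherent modules is quasi-coherent. -/
theorem isQCoh_tensor {F G : X.Modules} (hF : Coh.IsQCoh F) (hG : Coh.IsQCoh G) :
    Coh.IsQCoh (CohB1.tensorMod F G) := by
  refine M1.isQCoh_of_fromSpec fun U hU => ?_
  obtain ⟨M, N, -, -, ⟨e⟩⟩ := exists_tilde_tensor_iso _ _ (M1.isQCoh_fromSpec hF hU) (M1.isQCoh_fromSpec hG hU)
  exact M1.isQCoh_of_isIso (e ≪≫ (restrictTensorIso hU.fromSpec F G).symm)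
    (inferInstanceAs (Coh.IsQCoh (tilde _)))

/-- A tensor product of quasi-coherent finite type modules is of finite type. -/
theorem isFT_tensor {F G : X.Modules} (hF : Coh.IsQCoh F) (hG : Coh.IsQCoh G) (hF' : CohB1.IsFT F)
    (hG' : CohB1.IsFT G) : CohB1.IsFT (CohB1.tensorMod F G) := by
  refine M1.isFT_of_fromSpec fun U hU => ?_
  obtain ⟨M, N, ⟨a⟩, ⟨b⟩, ⟨e⟩⟩ :=
    exists_tilde_tensor_iso _ _ (M1.isQCoh_fromSpec hF hU) (M1.isQCoh_fromSpec hG hU)
  have hfin : ∀ (P : ModuleCat.{u} Γ(X, U)) (H : (Spec Γ(X, U)).Modules) (c : tilde P ≅ H),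
      CohB1.IsFT H → Module.Finite Γ(X, U) P := fun P H c hH => by
    haveI : Module.Finite Γ(X, U) ((modulesSpecToSheaf.obj (tilde P)).presheaf.obj (op ⊤)) :=
      M1.finite_sections_spec (tilde P) (inferInstanceAs (Coh.IsQCoh (tilde P)))
      (M1.isFT_of_isIso c.symm hH)
    exact Module.Finite.equiv (tilde.isoTop P).toLinearEquiv.symm
  haveI := hfin M _ a (M1.isFT_restrict hF' _)
  haveI := hfin N _ b (M1.isFT_restrict hG' _)
  exact M1.isFT_of_isIso (e ≪≫ (restrictTensorIso hU.fromSpec F G).symm) (M1.isFT_tilde _)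

end Groth.Agent.M2
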