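import Groth.Agent.Lib.TensorMod.PullStalk
import Groth.Agent.Lib.TensorMod.Invertible
import Groth.Prelude.Def_PicGrp

/-!
Pullback commutes with tensor products.
-/

universe u

open CategoryTheory Limits AlgebraicGeometry TopologicalSpace Opposite TensorProduct

set_option backward.isDefEq.respectTransparency false

namespace Groth.Agent.M2

variable {X Y : Scheme.{u}} (f : Y ⟶ X) (M N : X.Modules)

theorem pullCmp_pullSec {U : X.Opens} (s : Γ(M, U)) (t : Γ(N, U)) :
    (pullCmp f M N).app (f ⁻¹ᵁ U) (pullSec f (CohB1.tensorMod M N) (tsec M N s t)) =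
      tsec ((Scheme.Modules.pullback f).obj M) ((Scheme.Modules.pullback f).obj N) (U := f ⁻¹ᵁ U)
        (pullSec f M s) (pullSec f N t) := by
  have h0 : (Scheme.Modules.pullbackPushforwardAdjunction f).homEquiv _ _ (pullCmp f M N) =
      tensorMap ((Scheme.Modules.pullbackPushforwardAdjunction f).unit.app M)
        ((Scheme.Modules.pullbackPushforwardAdjunction f).unit.app N) ≫
          pushLax f ((Scheme.Modules.pullback f).obj M) ((Scheme.Modules.pullback f).obj N) :=
    Equiv.apply_symm_apply _ _
  rw [Adjunction.homEquiv_unit] at h0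
  have h : (pullCmp f M N).app (f ⁻¹ᵁ U) (pullSec f (CohB1.tensorMod M N) (tsec M N s t)) =
      (pushLax f ((Scheme.Modules.pullback f).obj M) ((Scheme.Modules.pullback f).obj N)).app U
        ((tensorMap ((Scheme.Modules.pullbackPushforwardAdjunction f).unit.app M)
          ((Scheme.Modules.pullbackPushforwardAdjunction f).unit.app N)).app U (tsec M N s t)) :=
    congrArg (fun φ => φ.app U (tsec M N s t)) h0
  refine h.trans ?_
  refine Eq.trans (congrArg ((pushLax f _ _).app U) (tensorMap_tsec (L := M) (M := N) _ _ s t)) ?_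
  exact mkHom_tsec (laxBiMap f _ _) _ _

/-- The algebraic description of the stalk of the comparison map. -/
noncomputable def cmpEquiv (y : Y) :
    (((Scheme.Modules.pullback f).obj (CohB1.tensorMod M N)).presheaf.stalk y : Type u) ≃ₗ[Y.presheaf.stalk y]
      (((Scheme.Modules.pullback f).obj M).presheaf.stalk y : Type u) ⊗[Y.presheaf.stalk y]
        (((Scheme.Modules.pullback f).obj N).presheaf.stalk y : Type u) :=
  (pullStalkEquiv f y (CohB1.tensorMod M N)).symm ≪≫ₗ
    TensorProduct.AlgebraTensorModule.congr (LinearEquiv.refl _ _) (stalkEquiv M N (f y)) ≪≫ₗ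
    TensorProduct.AlgebraTensorModule.distribBaseChange _ _ _ _ ≪≫ₗ
    TensorProduct.congr (pullStalkEquiv f y M) (pullStalkEquiv f y N)

theorem cmpEquiv_germ (y : Y) {U : X.Opens} (h : f y ∈ U) (s : Γ(M, U)) (t : Γ(N, U)) :
    cmpEquiv f M N y (((Scheme.Modules.pullback f).obj (CohB1.tensorMod M N)).presheaf.germ (f ⁻¹ᵁ U) y h
        (pullSec f (CohB1.tensorMod M N) (tsec M N s t))) =
      (((Scheme.Modules.pullback f).obj M).presheaf.germ (f ⁻¹ᵁ U) y h (pullSec f M s)) ⊗ₜ
        (((Scheme.Modules.pullback f).obj N).presheaf.germ (f ⁻¹ᵁ U) y h (pullSec f N t)) := by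
  simp only [cmpEquiv, LinearEquiv.trans_apply]
  rw [← pullStalkEquiv_tmul f y (CohB1.tensorMod M N) h, LinearEquiv.symm_apply_apply,
    TensorProduct.AlgebraTensorModule.congr_tmul, LinearEquiv.refl_apply, stalkEquiv_tsec,
    TensorProduct.AlgebraTensorModule.distribBaseChange_tmul, TensorProduct.congr_tmul,
    pullStalkEquiv_tmul, pullStalkEquiv_tmul]

theorem bijective_stalk_pullCmp (y : Y) :
    Function.Bijective ((M1.stalkAb y).map (pullCmp f M N)) := by
  suffices e : ∀ a, (stalkEquiv ((Scheme.Modules.pullback f).obj M) ((Scheme.Modules.pullback f).obj N) y)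
      (stMap ((pmF Y).map (pullCmp f M N)) y a) = cmpEquiv f M N y a by
    change Function.Bijective (stMap ((pmF Y).map (pullCmp f M N)) y)
    have e' : (stMap ((pmF Y).map (pullCmp f M N)) y : _ → _) =
        (stalkEquiv ((Scheme.Modules.pullback f).obj M) ((Scheme.Modules.pullback f).obj N) y).symm ∘
          cmpEquiv f M N y := funext fun a => (LinearEquiv.eq_symm_apply _).mpr (e a)
    rw [e']
    exact (LinearEquiv.bijective _).comp (LinearEquiv.bijective _)
  intro a
  obtain ⟨b, rfl⟩ := (pullStalkEquiv f y (CohB1.tensorMod M N)).surjective a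
  induction b using TensorProduct.induction_on with
  | zero => simp
  | add b b' hb hb' => simp only [map_add, hb, hb']
  | tmul c z =>
    obtain ⟨z, rfl⟩ := (stalkEquiv M N (f y)).symm.surjective z
    induction z using TensorProduct.induction_on with
    | zero => simp
    | add z z' hz hz' => simp only [map_add, TensorProduct.tmul_add, hz, hz']
    | tmul m n =>
      obtain ⟨U, hU, s, t, rfl, rfl⟩ := exists_sg₂ (pm M) (pm N) m n
      have e1 : (stalkEquiv M N (f y)).symm (M.presheaf.germ U (f y) hU s ⊗ₜ N.presheaf.germ U (f y) hU t) =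
          (CohB1.tensorMod M N).presheaf.germ U (f y) hU (tsec M N s t) :=
        (LinearEquiv.symm_apply_eq _).mpr (stalkEquiv_tsec M N (f y) hU s t).symm
      have e2 : c ⊗ₜ[X.presheaf.stalk (f y)] (CohB1.tensorMod M N).presheaf.germ U (f y) hU (tsec M N s t) =
          c • ((1 : Y.presheaf.stalk y) ⊗ₜ[X.presheaf.stalk (f y)]
            (CohB1.tensorMod M N).presheaf.germ U (f y) hU (tsec M N s t)) := by
        rw [TensorProduct.smul_tmul', smul_eq_mul, mul_one]
      erw [e1]
      rw [e2, map_smul, pullStalkEquiv_tmul]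
      erw [map_smul, map_smul, map_smul]
      refine Eq.trans ?_ (congrArg (c • ·) (cmpEquiv_germ f M N y hU s t).symm)
      congr 1
      refine Eq.trans (congrArg (stalkEquiv _ _ y) ((stMap_sg ((pmF Y).map (pullCmp f M N)) _ _).trans
        (congrArg _ (pullCmp_pullSec f M N s t)))) ?_
      exact stalkEquiv_tsec _ _ y hU _ _

instance isIso_pullCmp : IsIso (pullCmp f M N) :=
  (M1.isIso_iff_stalk _).mpr (bijective_stalk_pullCmp f M N)

/-- `f^* (M ⊗ N) ≅ f^* M ⊗ f^* N`. -/
noncomputable def pullTensorIso :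
    (Scheme.Modules.pullback f).obj (CohB1.tensorMod M N) ≅
      CohB1.tensorMod ((Scheme.Modules.pullback f).obj M) ((Scheme.Modules.pullback f).obj N) :=
  asIso (pullCmp f M N)

/-- `f^* (L^n) ≅ (f^* L)^n`. -/
noncomputable def pullTensorPowIso (L : X.Modules) :
    ∀ n, (Scheme.Modules.pullback f).obj (CohB1.tensorPow L n) ≅
      CohB1.tensorPow ((Scheme.Modules.pullback f).obj L) n
  | 0 => PicLoc.pullbackStructureIso f
  | n + 1 => pullTensorIso f _ _ ≪≫ tensorIso (pullTensorPowIso L n) (Iso.refl _)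

/-- Pullback of classes is multiplicative. -/
theorem pullMul : PicGrp.PullMul f := by
  rintro c d ⟨L, rfl, -⟩ ⟨L', rfl, -⟩
  exact (PicGrp.cl_eq_cl_iff _ _).mpr ⟨pullTensorIso f L L'⟩

end Groth.Agent.M2
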