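import Groth.Agent.Lib.TensorMod.PullStalk
import Groth.Agent.Lib.ModM1.Coh
import Groth.Agent.Lib.ModM1.Stalk
import Mathlib.RingTheory.LocalRing.Module

/-!
The support of a pullback of a quasi-coherent finite type module.
-/

universe u

open CategoryTheory Limits AlgebraicGeometry TopologicalSpace Opposite TensorProduct

set_option backward.isDefEq.respectTransparency false

namespace Groth.Agent.M2

/-- Base change along a local homomorphism of local rings detects nonzero finite modules. -/
theorem subsingleton_of_baseChange_local {A B : Type*} [CommRing A] [CommRing B] [IsLocalRing A]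
    [IsLocalRing B] [Algebra A B] [IsLocalHom (algebraMap A B)] (N : Type*) [AddCommGroup N]
    [Module A N] [Module.Finite A N] [Subsingleton (B ⊗[A] N)] : Subsingleton N := by
  by_contra hN
  haveI : Nontrivial (IsLocalRing.ResidueField A ⊗[A] N) :=
    not_subsingleton_iff_nontrivial.mp fun h => hN (IsLocalRing.subsingleton_tensorProduct.mp h)
  obtain ⟨v, hv⟩ := exists_ne (0 : IsLocalRing.ResidueField A ⊗[A] N)
  let b := Module.Free.chooseBasis (IsLocalRing.ResidueField A) (IsLocalRing.ResidueField A ⊗[A] N)
  obtain ⟨i, hi⟩ : ∃ i, b.coord i v ≠ 0 := by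
    by_contra h
    push Not at h
    exact hv (b.ext_elem fun i => (h i).trans (by simp))
  obtain ⟨n, hn⟩ : ∃ n : N, b.coord i (1 ⊗ₜ[A] n) ≠ 0 := by
    by_contra h
    push Not at h
    refine hi ?_
    clear hv hi
    induction v using TensorProduct.induction_on with
    | zero => exact map_zero _
    | tmul c n =>
      rw [show c ⊗ₜ[A] n = c • ((1 : IsLocalRing.ResidueField A) ⊗ₜ[A] n) by
        rw [TensorProduct.smul_tmul', smul_eq_mul, mul_one], map_smul, h, smul_zero]
    | add a c ha hc => rw [map_add, ha, hc, add_zero]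
  let φ := IsLocalRing.ResidueField.map (algebraMap A B)
  let g : N →ₗ[A] IsLocalRing.ResidueField B :=
    { toFun := fun m => φ (b.coord i (1 ⊗ₜ[A] m))
      map_add' := fun m m' => by rw [TensorProduct.tmul_add, map_add, map_add]
      map_smul' := fun a m => by
        rw [TensorProduct.tmul_smul, ← algebraMap_smul (IsLocalRing.ResidueField A) a
          ((1 : IsLocalRing.ResidueField A) ⊗ₜ[A] m), map_smul, smul_eq_mul, map_mul, RingHom.id_apply,
          Algebra.smul_def]
        rfl }
  have h0 : g.liftBaseChange B (1 ⊗ₜ[A] n) = 0 := by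
    rw [Subsingleton.elim ((1 : B) ⊗ₜ[A] n) 0, map_zero]
  rw [LinearMap.liftBaseChange_one_tmul] at h0
  exact hn ((map_eq_zero φ).mp h0)

/-- The support of a pullback. -/
theorem support_pullback {X Y : Scheme.{u}} (f : Y ⟶ X) {F : X.Modules} (hF : Coh.IsQCoh F)
    (hFT : CohB1.IsFT F) :
    CohB1.support ((Scheme.Modules.pullback f).obj F) = f.base ⁻¹' CohB1.support F := by
  ext y
  refine not_congr ⟨fun h => ?_, fun h => ?_⟩
  · haveI := M1.finite_stalk hF hFT (f y)
    haveI : IsLocalHom (algebraMap (X.presheaf.stalk (f y)) (Y.presheaf.stalk y)) :=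
      inferInstanceAs (IsLocalHom (f.stalkMap y).hom)
    haveI : Subsingleton (BC f y F) := @Equiv.subsingleton _ _ (pullStalkEquiv f y F).toEquiv h
    exact subsingleton_of_baseChange_local (A := X.presheaf.stalk (f y)) (B := Y.presheaf.stalk y)
      (F.presheaf.stalk (f y) : Type u)
  · haveI : Subsingleton (F.presheaf.stalk (f y) : Type u) := h
    haveI : Subsingleton (BC f y F) := inferInstance
    exact @Equiv.subsingleton _ _ (pullStalkEquiv f y F).symm.toEquiv this

end Groth.Agent.M2
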