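import Groth.Agent.Lib.TensorMod.Dual
import Groth.Agent.Lib.TensorMod.PullTensor
import Mathlib.Algebra.Group.MinimalAxioms

/-!
The group law on the Picard group.
-/

universe u

open CategoryTheory Limits AlgebraicGeometry

namespace Groth.Agent.M2

variable {Y : Scheme.{u}}

theorem exists_eq_cl (c : PicF.Cl Y) : ∃ L : Y.Modules, PicF.cl L = c := by
  induction c using Quot.ind with
  | mk L => exact ⟨L, rfl⟩

theorem cl_eq_of_iso {L M : Y.Modules} (e : L ≅ M) : PicF.cl L = PicF.cl M := Quot.sound ⟨e⟩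

theorem mulCl_assoc (a b c : PicF.Cl Y) :
    PicGrp.mulCl (PicGrp.mulCl a b) c = PicGrp.mulCl a (PicGrp.mulCl b c) := by
  obtain ⟨L, rfl⟩ := exists_eq_cl a
  obtain ⟨M, rfl⟩ := exists_eq_cl b
  obtain ⟨N, rfl⟩ := exists_eq_cl c
  exact cl_eq_of_iso (tensorAssoc L M N)

theorem mulCl_comm (a b : PicF.Cl Y) : PicGrp.mulCl a b = PicGrp.mulCl b a := by
  obtain ⟨L, rfl⟩ := exists_eq_cl a
  obtain ⟨M, rfl⟩ := exists_eq_cl b
  exact cl_eq_of_iso (tensorComm L M)

theorem one_mulCl (a : PicF.Cl Y) : PicGrp.mulCl (PicF.cl (Coh.structureModule Y)) a = a := by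
  obtain ⟨L, rfl⟩ := exists_eq_cl a
  exact cl_eq_of_iso (tensorLUnit L)

theorem isInvertibleCl_mulCl {a b : PicF.Cl Y} (ha : PicF.IsInvertibleCl a) (hb : PicF.IsInvertibleCl b) :
    PicF.IsInvertibleCl (PicGrp.mulCl a b) := by
  obtain ⟨L, rfl, hL⟩ := ha
  obtain ⟨M, rfl, hM⟩ := hb
  exact ⟨CohB1.tensorMod L M, rfl, isInvertible_tensor hL hM⟩

theorem exists_invCl (c : PicLoc.PicSet Y) :
    ∃ d : PicLoc.PicSet Y, PicGrp.mulCl d.1 c.1 = PicF.cl (Coh.structureModule Y) := by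
  obtain ⟨c, L, rfl, hL⟩ := c
  exact ⟨⟨PicF.cl (dualMod L), dualMod L, rfl, isInvertible_dualMod hL⟩, cl_eq_of_iso (dualTensorIso hL)⟩

/-- The group law of the Picard group. -/
noncomputable def law (Y : Scheme.{u}) : PicGrp.Law Y :=
  letI : Mul (PicLoc.PicSet Y) := ⟨fun a b => ⟨PicGrp.mulCl a.1 b.1, isInvertibleCl_mulCl a.2 b.2⟩⟩
  letI : One (PicLoc.PicSet Y) := ⟨PicLoc.unitPicSet Y⟩
  letI : Inv (PicLoc.PicSet Y) := ⟨fun c => (exists_invCl c).choose⟩
  { toCommGroup :=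
      { Group.ofLeftAxioms (G := PicLoc.PicSet Y) (fun a b c => Subtype.ext (mulCl_assoc a.1 b.1 c.1))
          (fun a => Subtype.ext (one_mulCl a.1))
          (fun a => Subtype.ext (exists_invCl a).choose_spec) with
        mul_comm := fun a b => Subtype.ext (mulCl_comm a.1 b.1) }
    mul_val := fun _ _ => rfl
    one_eq := rfl }

end Groth.Agent.M2
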