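import Groth.Agent.Lib.TensorMod.Hom
import Mathlib.RingTheory.Localization.BaseChange
import Mathlib.AlgebraicGeometry.Modules.Tilde

/-!
`(M ⊗ N)^~ ≅ M^~ ⊗ N^~`.
-/

universe u

open CategoryTheory Limits AlgebraicGeometry TopologicalSpace Opposite TensorProduct

set_option backward.isDefEq.respectTransparency false

namespace Groth.Agent.M2

variable {R : CommRingCat.{u}} (M N : ModuleCat.{u} R)

/-- The global section of `M^~` defined by an element of `M`. -/
noncomputable def gsec (m : M) : Γ(tilde M, ⊤) := (tilde.toOpen M ⊤).hom m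

theorem gsec_add (m m' : M) : gsec M (m + m') = gsec M m + gsec M m' := map_add (tilde.toOpen M ⊤).hom m m'

theorem gsec_smul (r : R) (m : M) : gsec M (r • m) = r • gsec M m := map_smul (tilde.toOpen M ⊤).hom r m

/-- `m ⊗ n ↦ m ⊗ n` as global sections. -/
noncomputable def gsecLin : M ⊗[R] N →ₗ[R] Γ(CohB1.tensorMod (tilde M) (tilde N), ⊤) :=
  TensorProduct.lift (LinearMap.mk₂ R
    (fun m n => (show Γ(CohB1.tensorMod (tilde M) (tilde N), ⊤) from tsec _ _ (gsec M m) (gsec N n)))
    (fun m m' n => by rw [gsec_add, tsec_add_left])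
    (fun r m n => by
      rw [gsec_smul, Scheme.Modules.smul_Spec_def, tsec_smul_left]
      rfl)
    (fun m n n' => by rw [gsec_add, tsec_add_right])
    (fun r m n => by
      rw [gsec_smul, Scheme.Modules.smul_Spec_def, tsec_smul_right]
      rfl))

/-- `gsecLin` as a morphism. -/
noncomputable def gsecTensor :
    ModuleCat.of R (M ⊗[R] N) ⟶ moduleSpecΓFunctor.obj (CohB1.tensorMod (tilde M) (tilde N)) :=
  ModuleCat.ofHom (X := M ⊗[R] N) (Y := Γ(CohB1.tensorMod (tilde M) (tilde N), ⊤)) (gsecLin M N)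

/-- The comparison map. -/
noncomputable def tildeTensorHom :
    tilde (ModuleCat.of R (M ⊗[R] N)) ⟶ CohB1.tensorMod (tilde M) (tilde N) :=
  (tilde.adjunction (R := R)).homEquiv _ _ |>.symm (gsecTensor M N)

theorem tildeTensorHom_gsec (m : M) (n : N) :
    (tildeTensorHom M N).app ⊤ (gsec _ (m ⊗ₜ[R] n)) = tsec _ _ (gsec M m) (gsec N n) := by
  have h := ((tilde.adjunction (R := R)).homEquiv _ _).apply_symm_apply (gsecTensor M N)
  rw [Adjunction.homEquiv_unit] at h
  exact congrArg (fun φ : ModuleCat.of R (M ⊗[R] N) ⟶ moduleSpecΓFunctor.obj _ => φ.hom (m ⊗ₜ[R] n)) h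

theorem bijective_stalk_tildeTensorHom (x : PrimeSpectrum R) :
    Function.Bijective ((M1.stalkAb x).map (tildeTensorHom M N)) := by
  let A := ((Spec R).presheaf.stalk x : Type u)
  letI : Algebra R A := (StructureSheaf.toStalk R x).hom.toAlgebra
  haveI : IsLocalization x.asIdeal.primeCompl A := by
    exact (inferInstance : IsLocalization.AtPrime ((Spec.structureSheaf R).presheaf.stalk x) x.asIdeal)
  haveI hT : ∀ P : ModuleCat.{u} R, IsScalarTower R A ((tilde P).presheaf.stalk x) := fun P =>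
    ⟨fun r a z => by
      rw [Algebra.smul_def, mul_smul]
      rfl⟩
  let E := (IsLocalization.moduleTensorEquiv x.asIdeal.primeCompl A
    ((tilde M).presheaf.stalk x : Type u) ((tilde N).presheaf.stalk x : Type u)).symm.restrictScalars R
  let g : M ⊗[R] N →ₗ[R] ((tilde M).presheaf.stalk x : Type u) ⊗[A] ((tilde N).presheaf.stalk x : Type u) :=
    E.toLinearMap ∘ₗ TensorProduct.map (tilde.toStalk M x).hom (tilde.toStalk N x).hom
  haveI : IsLocalizedModule x.asIdeal.primeCompl g := IsLocalizedModule.of_linearEquiv _ _ _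
  let σA : ((tilde (ModuleCat.of R (M ⊗[R] N))).presheaf.stalk x : Type u) →ₗ[A]
      ((tilde M).presheaf.stalk x : Type u) ⊗[A] ((tilde N).presheaf.stalk x : Type u) :=
    (stalkEquiv (tilde M) (tilde N) x).toLinearMap ∘ₗ stMap ((pmF (Spec R)).map (tildeTensorHom M N)) x
  let σ := σA.restrictScalars R
  have hσ : σ ∘ₗ (tilde.toStalk (ModuleCat.of R (M ⊗[R] N)) x).hom = g := by
    refine TensorProduct.ext' fun m n => ?_
    change stalkEquiv (tilde M) (tilde N) x (stMap ((pmF (Spec R)).map (tildeTensorHom M N)) x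
      ((tilde (ModuleCat.of R (M ⊗[R] N))).presheaf.germ ⊤ x trivial (gsec _ (m ⊗ₜ[R] n)))) = _
    refine Eq.trans (congrArg _ (stMap_sg ((pmF (Spec R)).map (tildeTensorHom M N)) (x := x) (U := ⊤) trivial (gsec _ (m ⊗ₜ[R] n)))) ?_
    refine Eq.trans (congrArg (fun z => stalkEquiv (tilde M) (tilde N) x
      ((CohB1.tensorMod (tilde M) (tilde N)).presheaf.germ ⊤ x trivial z)) (tildeTensorHom_gsec M N m n)) ?_
    exact stalkEquiv_tsec (tilde M) (tilde N) (U := ⊤) x trivial (gsec M m) (gsec N n)
  haveI : IsLocalizedModule x.asIdeal.primeCompl (tilde.toStalk (ModuleCat.of R (M ⊗[R] N)) x).hom :=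
    inferInstanceAs (IsLocalizedModule x.asIdeal.primeCompl (StructureSheaf.toStalkₗ ..))
  have he : σ = (IsLocalizedModule.linearEquiv x.asIdeal.primeCompl
      (tilde.toStalk (ModuleCat.of R (M ⊗[R] N)) x).hom g).toLinearMap :=
    IsLocalizedModule.ext x.asIdeal.primeCompl (tilde.toStalk (ModuleCat.of R (M ⊗[R] N)) x).hom
      (fun r => IsLocalizedModule.map_units g r) (hσ.trans (LinearMap.ext fun z => by
        exact (IsLocalizedModule.linearEquiv_apply x.asIdeal.primeCompl
          (tilde.toStalk (ModuleCat.of R (M ⊗[R] N)) x).hom g z).symm))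
  have hb : Function.Bijective σA := by
    change Function.Bijective σ
    rw [he]
    exact LinearEquiv.bijective _
  exact ((stalkEquiv (tilde M) (tilde N) x).bijective.of_comp_iff' _).mp hb

instance isIso_tildeTensorHom : IsIso (tildeTensorHom M N) :=
  (M1.isIso_iff_stalk _).mpr fun x => bijective_stalk_tildeTensorHom M N x

/-- `(M ⊗ N)^~ ≅ M^~ ⊗ N^~`. -/
noncomputable def tildeTensorIso :
    tilde (ModuleCat.of R (M ⊗[R] N)) ≅ CohB1.tensorMod (tilde M) (tilde N) :=
  asIso (tildeTensorHom M N)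

end Groth.Agent.M2
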