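import Groth.Agent.Lib.TensorMod.Stalk
import Groth.Agent.Lib.ModM1.Exact
import Groth.Prelude.Def_CohB1
import Groth.Prelude.Def_FlatMod2
import Mathlib.Topology.Sheaves.Sheafify

/-!
`CohB1.tensorMod`: functoriality, symmetry, associativity, unit, stalks.
-/

universe u

open CategoryTheory MonoidalCategory Limits AlgebraicGeometry TopologicalSpace Opposite TensorProduct

namespace Groth.Agent.M2

/-- The adjunction between sheafification and the forgetful functor. -/
noncomputable def adjS (X : Scheme.{u}) :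
    CohB1.sheafifyMod X ⊣ SheafOfModules.forget X.ringCatSheaf ⋙
      PresheafOfModules.restrictScalars (𝟙 X.ringCatSheaf.obj) :=
  PresheafOfModules.sheafificationAdjunction.{u} (R := X.ringCatSheaf) (𝟙 X.ringCatSheaf.obj)

theorem isIso_adjS_counit {X : Scheme.{u}} (M : X.Modules) : IsIso ((adjS X).counit.app M) := by
  change IsIso ((PresheafOfModules.sheafificationAdjunction.{u} (R := X.ringCatSheaf)
    (𝟙 X.ringCatSheaf.obj)).counit.app M)
  infer_instance

theorem toPresheaf_adjS_unit {X : Scheme.{u}} (P : X.PresheafOfModules) :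
    (PresheafOfModules.toPresheaf _).map ((adjS X).unit.app P) =
      CategoryTheory.toSheafify (Opens.grothendieckTopology X) P.presheaf :=
  PresheafOfModules.toPresheaf_map_sheafificationAdjunction_unit_app _ _

set_option backward.isDefEq.respectTransparency false

variable {X : Scheme.{u}}

/-- The underlying presheaf of modules. -/
noncomputable abbrev pm (M : X.Modules) : PM X.presheaf := CohB1.toPMod M

/-- Sheafification. -/
noncomputable abbrev shf (X : Scheme.{u}) : PM X.presheaf ⥤ X.Modules := CohB1.sheafifyMod X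

/-- The underlying presheaf of modules, as a functor. -/
noncomputable abbrev pmF (X : Scheme.{u}) : X.Modules ⥤ PM X.presheaf := Scheme.Modules.toPresheafOfModules X

/-- The unit of sheafification. -/
noncomputable def unitS (P : PM X.presheaf) : P ⟶ pm ((shf X).obj P) := (adjS X).unit.app P

theorem toPresheaf_unitS (P : PM X.presheaf) :
    (PresheafOfModules.toPresheaf _).map (unitS P) =
      CategoryTheory.toSheafify (Opens.grothendieckTopology X) P.presheaf :=
  toPresheaf_adjS_unit P

theorem unitS_naturality {P Q : PM X.presheaf} (f : P ⟶ Q) :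
    f ≫ unitS Q = unitS P ≫ (pmF X).map ((shf X).map f) :=
  (adjS X).unit.naturality f

theorem bijective_stMap_unitS (P : PM X.presheaf) (x : X) : Function.Bijective (stMap (unitS P) x) := by
  change Function.Bijective
    ((TopCat.Presheaf.stalkFunctor AddCommGrpCat.{u} x).map ((PresheafOfModules.toPresheaf _).map (unitS P)))
  rw [toPresheaf_unitS]
  haveI := TopCat.Presheaf.stalkFunctor_map_unit_toSheafify_isIso x AddCommGrpCat.{u} P.presheaf
  exact ConcreteCategory.bijective_of_isIso _

theorem stMap_comp {P Q R : PM X.presheaf} (f : P ⟶ Q) (g : Q ⟶ R) (x : X) (a : st P x) :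
    stMap (f ≫ g) x a = stMap g x (stMap f x a) := by
  obtain ⟨U, hU, s, rfl⟩ := exists_sg P a
  rw [stMap_sg, stMap_sg, stMap_sg]
  rfl

theorem stMap_id (P : PM X.presheaf) (x : X) (a : st P x) : stMap (𝟙 P) x a = a := by
  obtain ⟨U, hU, s, rfl⟩ := exists_sg P a
  rw [stMap_sg]
  rfl

theorem bijective_stMap_id (P : PM X.presheaf) (x : X) : Function.Bijective (stMap (𝟙 P) x) := by
  rw [show (stMap (𝟙 P) x : _ → _) = id from funext (stMap_id P x)]
  exact Function.bijective_id

theorem bijective_stalk_shf_map_iff {P Q : PM X.presheaf} (f : P ⟶ Q) (x : X) :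
    Function.Bijective ((M1.stalkAb x).map ((shf X).map f)) ↔ Function.Bijective (stMap f x) := by
  change Function.Bijective (stMap ((pmF X).map ((shf X).map f)) x) ↔ _
  have key : (stMap ((pmF X).map ((shf X).map f)) x : _ → _) ∘ stMap (unitS P) x =
      stMap (unitS Q) x ∘ stMap f x := by
    funext a
    refine (stMap_comp (unitS P) _ x a).symm.trans ?_
    rw [← unitS_naturality]
    exact stMap_comp f (unitS Q) x a
  have hP := bijective_stMap_unitS P x
  have hQ := bijective_stMap_unitS Q x
  refine ⟨fun h => ?_, fun h => ?_⟩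
  · exact (Function.Bijective.of_comp_iff' hQ _).mp (key ▸ h.comp hP)
  · exact (Function.Bijective.of_comp_iff _ hP).mp (key ▸ hQ.comp h)

/-- Sheafification inverts stalkwise bijective maps. -/
theorem isIso_shf_map {P Q : PM X.presheaf} (f : P ⟶ Q)
    (h : ∀ x : X, Function.Bijective (stMap f x)) : IsIso ((shf X).map f) :=
  (M1.isIso_iff_stalk _).mpr fun x => (bijective_stalk_shf_map_iff f x).mpr (h x)

/-- The counit of sheafification. -/
noncomputable def shfPmIso (M : X.Modules) : (shf X).obj (pm M) ≅ M :=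
  @asIso _ _ _ _ ((adjS X).counit.app M) (isIso_adjS_counit M)

/-- Functoriality of the tensor product. -/
noncomputable def tensorMap {L L' M M' : X.Modules} (f : L ⟶ L') (g : M ⟶ M') :
    CohB1.tensorMod L M ⟶ CohB1.tensorMod L' M' :=
  (shf X).map ((pmF X).map f ⊗ₘ (pmF X).map g)

@[simp]
theorem tensorMap_id (L M : X.Modules) : tensorMap (𝟙 L) (𝟙 M) = 𝟙 (CohB1.tensorMod L M) :=
  (congrArg (shf X).map (MonoidalCategory.id_tensorHom_id (pm L) (pm M))).trans ((shf X).map_id _)

theorem tensorMap_comp {L L' L'' M M' M'' : X.Modules} (f : L ⟶ L') (f' : L' ⟶ L'') (g : M ⟶ M')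
    (g' : M' ⟶ M'') : tensorMap (f ≫ f') (g ≫ g') = tensorMap f g ≫ tensorMap f' g' := by
  simp only [tensorMap, Functor.map_comp, ← MonoidalCategory.tensorHom_comp_tensorHom]

/-- Functoriality in isomorphisms. -/
noncomputable def tensorIso {L L' M M' : X.Modules} (e : L ≅ L') (f : M ≅ M') :
    CohB1.tensorMod L M ≅ CohB1.tensorMod L' M' where
  hom := tensorMap e.hom f.hom
  inv := tensorMap e.inv f.inv
  hom_inv_id := by rw [← tensorMap_comp, e.hom_inv_id, f.hom_inv_id, tensorMap_id]
  inv_hom_id := by rw [← tensorMap_comp, e.inv_hom_id, f.inv_hom_id, tensorMap_id]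

/-- Symmetry. -/
noncomputable def tensorComm (L M : X.Modules) : CohB1.tensorMod L M ≅ CohB1.tensorMod M L :=
  (shf X).mapIso (β_ (pm L) (pm M))

/-- Tensoring with the unit of sheafification becomes an isomorphism after sheafification. -/
noncomputable def shfWhiskerIso (A P : PM X.presheaf) :
    (shf X).obj (A ⊗ P) ≅ (shf X).obj (A ⊗ pm ((shf X).obj P)) :=
  haveI := isIso_shf_map (𝟙 A ⊗ₘ unitS P) fun x =>
    bijective_stMap_tensorHom (X := X.toPresheafedSpace.carrier) (x := x) _ _ (bijective_stMap_id A x)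
      (bijective_stMap_unitS P x)
  asIso ((shf X).map (𝟙 A ⊗ₘ unitS P))

/-- Tensoring on the other side. -/
noncomputable def shfWhiskerIso' (P A : PM X.presheaf) :
    (shf X).obj (P ⊗ A) ≅ (shf X).obj (pm ((shf X).obj P) ⊗ A) :=
  haveI := isIso_shf_map (unitS P ⊗ₘ 𝟙 A) fun x =>
    bijective_stMap_tensorHom (X := X.toPresheafedSpace.carrier) (x := x) _ _ (bijective_stMap_unitS P x)
      (bijective_stMap_id A x)
  asIso ((shf X).map (unitS P ⊗ₘ 𝟙 A))

/-- Associativity. -/
noncomputable def tensorAssoc (L M N : X.Modules) :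
    CohB1.tensorMod (CohB1.tensorMod L M) N ≅ CohB1.tensorMod L (CohB1.tensorMod M N) :=
  (shfWhiskerIso' (pm L ⊗ pm M) (pm N)).symm ≪≫ (shf X).mapIso (α_ (pm L) (pm M) (pm N)) ≪≫
    shfWhiskerIso (pm L) (pm M ⊗ pm N)

/-- Left unit. -/
noncomputable def tensorLUnit (M : X.Modules) : CohB1.tensorMod (Coh.structureModule X) M ≅ M :=
  (shf X).mapIso (λ_ (pm M)) ≪≫ shfPmIso M

/-- Right unit. -/
noncomputable def tensorRUnit (M : X.Modules) : CohB1.tensorMod M (Coh.structureModule X) ≅ M :=
  (shf X).mapIso (ρ_ (pm M)) ≪≫ shfPmIso M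

/-- Exchange of the middle factors. -/
noncomputable def tensorInterchange (A B C D : X.Modules) :
    CohB1.tensorMod (CohB1.tensorMod A B) (CohB1.tensorMod C D) ≅
      CohB1.tensorMod (CohB1.tensorMod A C) (CohB1.tensorMod B D) :=
  tensorAssoc A B _ ≪≫ tensorIso (Iso.refl A) ((tensorAssoc B C D).symm ≪≫
    tensorIso (tensorComm B C) (Iso.refl D) ≪≫ tensorAssoc C B D) ≪≫ (tensorAssoc A C _).symm

/-- The map `M_x ⊗ N_x → (M ⊗ N)_x` is bijective: the stalk of a tensor product. -/
noncomputable def stalkEquiv (M N : X.Modules) (x : X) :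
    (CohB1.tensorMod M N).presheaf.stalk x ≃ₗ[X.presheaf.stalk x]
      (M.presheaf.stalk x : Type u) ⊗[X.presheaf.stalk x] (N.presheaf.stalk x : Type u) :=
  (LinearEquiv.ofBijective (stMap (unitS (pm M ⊗ pm N)) x) (bijective_stMap_unitS _ x)).symm.trans
    (stalkTensorEquiv (X := X.toPresheafedSpace.carrier) (pm M) (pm N) x)

/-- The germ of a pure tensor section. -/
noncomputable def tsec (M N : X.Modules) {U : X.Opens} (s : Γ(M, U)) (t : Γ(N, U)) :
    Γ(CohB1.tensorMod M N, U) :=
  (unitS (pm M ⊗ pm N)).app (op U) (tm (pm M) (pm N) s t)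

theorem stalkEquiv_tsec (M N : X.Modules) {U : X.Opens} (x : X) (hx : x ∈ U) (s : Γ(M, U)) (t : Γ(N, U)) :
    stalkEquiv M N x ((CohB1.tensorMod M N).presheaf.germ U x hx (tsec M N s t)) =
      M.presheaf.germ U x hx s ⊗ₜ N.presheaf.germ U x hx t := by
  refine Eq.trans ?_ (stalkTensorEquiv_sg (pm M) (pm N) hx s t)
  simp only [stalkEquiv, LinearEquiv.trans_apply]
  congr 1
  refine (LinearEquiv.symm_apply_eq _).mpr ?_
  exact (stMap_sg (unitS (pm M ⊗ pm N)) hx _).symm

end Groth.Agent.M2
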