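import Groth.Agent.Lib.TensorMod.Invertible
import Groth.Agent.Lib.ModM1.LocFree
import Mathlib.CategoryTheory.Limits.Shapes.BinaryBiproducts

/-!
Direct summands of finite locally free modules are finite locally free.
-/

universe u

open CategoryTheory Limits AlgebraicGeometry TopologicalSpace Opposite

set_option backward.isDefEq.respectTransparency false

namespace Groth.Agent.M2

variable {X : Scheme.{u}}

/-- A retract of a finite locally free module is finite locally free. -/
theorem isFinLocFree_of_retract {M F : X.Modules} (hF : FlatMod.IsFinLocFree F) (i : M ⟶ F) (p : F ⟶ M)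
    (hip : i ≫ p = 𝟙 M) : FlatMod.IsFinLocFree M := by
  have hFP := ((M1.isFinLocFree_iff F).mp hF).1
  let φ : F ⟶ F := 𝟙 F - p ≫ i
  have hw : φ ≫ p = 0 := by
    simp only [φ, Preadditive.sub_comp, Category.id_comp, Category.assoc, hip, Category.comp_id, sub_self]
  have hcol : IsColimit (CokernelCofork.ofπ (f := φ) p hw) :=
    CokernelCofork.IsColimit.ofπ p hw (fun g _ => i ≫ g)
      (fun g hg => by
        have h1 : g - p ≫ i ≫ g = 0 := by
          simpa only [φ, Preadditive.sub_comp, Category.id_comp, Category.assoc] using hg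
        exact (sub_eq_zero.mp h1).symm)
      (fun g _ m hm => by rw [← hm, ← Category.assoc, hip, Category.id_comp])
  have hMQ : Coh.IsQCoh M :=
    M1.isQCoh_of_isIso ((cokernelIsCokernel φ).coconePointUniqueUpToIso hcol)
      (M1.isQCoh_cokernel (M1.isFP_isQCoh hFP) (M1.isFP_isQCoh hFP) φ)
  have hMFP : CohB1.IsFP M := M1.isFP_of_finitePresentation_sections hMQ fun U hU => by
    haveI := M1.finitePresentation_sections hFP hU
    let iL : Γ(M, U) →ₗ[Γ(X, U)] Γ(F, U) :=
      { toFun := i.app U, map_add' := map_add (i.app U).hom, map_smul' := i.app_smul }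
    let pL : Γ(F, U) →ₗ[Γ(X, U)] Γ(M, U) :=
      { toFun := p.app U, map_add' := map_add (p.app U).hom, map_smul' := p.app_smul }
    have h : ∀ m, pL (iL m) = m := fun m => congrArg (fun t : M ⟶ M => t.app U m) hip
    refine Module.finitePresentation_of_surjective pL (fun m => ⟨iL m, h m⟩) ?_
    have hker : LinearMap.ker pL = LinearMap.range (LinearMap.id - iL ∘ₗ pL) := by
      ext z
      simp only [LinearMap.mem_ker, LinearMap.mem_range, LinearMap.sub_apply, LinearMap.id_apply,
        LinearMap.comp_apply]
      exact ⟨fun hz => ⟨z, by rw [hz, map_zero, sub_zero]⟩, by rintro ⟨y, rfl⟩; rw [map_sub, h, sub_self]⟩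
    rw [hker]
    exact Module.Finite.iff_fg.mp inferInstance
  refine (M1.isFinLocFree_iff M).mpr ⟨hMFP, fun x => ?_⟩
  haveI := ((M1.isFinLocFree_iff F).mp hF).2 x
  haveI := M1.finite_stalk (M1.isFP_isQCoh hMFP) (M1.isFP_isFT hMFP) x
  haveI : Module.Projective (X.presheaf.stalk x) (st ((pmF X).obj F) x : Type u) := by
    exact (Module.Projective.of_free : Module.Projective (X.presheaf.stalk x) (F.presheaf.stalk x))
  haveI : Module.Projective (X.presheaf.stalk x) (M.presheaf.stalk x) :=
    Module.Projective.of_split (stMap ((pmF X).map i) x) (stMap ((pmF X).map p) x) (LinearMap.ext fun a => by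
      change stMap ((pmF X).map p) x (stMap ((pmF X).map i) x a) = a
      refine (stMap_comp _ _ x a).symm.trans ?_
      rw [← Functor.map_comp, hip, CategoryTheory.Functor.map_id]
      exact stMap_id _ x a)
  haveI : Module.Flat (X.presheaf.stalk x) (M.presheaf.stalk x) := Module.Flat.of_projective
  exact Module.free_of_flat_of_isLocalRing

end Groth.Agent.M2
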