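import Groth.Agent.Lib.TensorMod.Invertible
import Mathlib.Topology.Sheaves.SheafCondition.UniqueGluing

/-!
The module of homomorphisms and inverses of invertible modules.
-/

universe u

open CategoryTheory Limits AlgebraicGeometry TopologicalSpace Opposite TensorProduct

set_option backward.isDefEq.respectTransparency false

namespace Groth.Agent.M2

variable {X : Scheme.{u}} (M N : X.Modules)

/-- Families of linear maps on the sections over the opens inside `U`. -/
abbrev HomFam (U : X.Opens) : Type u :=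
  ∀ V : {V : X.Opens // V ≤ U}, (Γ(M, V.1) : Type u) →ₗ[Γ(X, V.1)] (Γ(N, V.1) : Type u)

/-- The scalar action on families of linear maps. -/
noncomputable instance homFamModule (U : X.Opens) : Module Γ(X, U) (HomFam M N U) :=
  letI : ∀ V : {V : X.Opens // V ≤ U},
      Module Γ(X, U) ((Γ(M, V.1) : Type u) →ₗ[Γ(X, V.1)] (Γ(N, V.1) : Type u)) :=
    fun V => Module.compHom _ (X.presheaf.map (homOfLE V.2).op).hom
  inferInstanceAs (Module Γ(X, U) (∀ V : {V : X.Opens // V ≤ U},
    (Γ(M, V.1) : Type u) →ₗ[Γ(X, V.1)] (Γ(N, V.1) : Type u)))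

theorem homFam_smul_apply {U : X.Opens} (r : Γ(X, U)) (φ : HomFam M N U) (V : {V : X.Opens // V ≤ U})
    (s : Γ(M, V.1)) : (r • φ) V s = X.presheaf.map (homOfLE V.2).op r • φ V s := rfl

/-- Families compatible with restriction. -/
def HomSec (U : X.Opens) : Submodule Γ(X, U) (HomFam M N U) where
  carrier := {φ | ∀ (V V' : {V : X.Opens // V ≤ U}) (h : V'.1 ≤ V.1) (s : Γ(M, V.1)),
    φ V' (res M h s) = res N h (φ V s)}
  add_mem' := by
    intro φ ψ hφ hψ V V' h s
    change φ V' _ + ψ V' _ = res N h (φ V s + ψ V s)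
    rw [hφ V V' h s, hψ V V' h s]
    exact (map_add _ _ _).symm
  zero_mem' := fun V V' h s => (map_zero _).symm
  smul_mem' := by
    intro r φ hφ V V' h s
    change (r • φ) V' (res M h s) = res N h ((r • φ) V s)
    rw [homFam_smul_apply, homFam_smul_apply, hφ V V' h s]
    refine Eq.trans ?_ (Scheme.Modules.map_smul N (homOfLE h) _ _).symm
    rw [← CommRingCat.comp_apply, ← Functor.map_comp]
    rfl

/-- Restriction of families. -/
def homRes {U U' : X.Opens} (h : U' ≤ U) (φ : HomSec M N U) : HomSec M N U' :=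
  ⟨fun V => φ.1 ⟨V.1, V.2.trans h⟩, fun V V' hV s => φ.2 ⟨V.1, V.2.trans h⟩ ⟨V'.1, V'.2.trans h⟩ hV s⟩

/-- The abelian presheaf of families. -/
noncomputable def homAb : (Opens X)ᵒᵖ ⥤ AddCommGrpCat.{u} where
  obj U := AddCommGrpCat.of (HomSec M N U.unop)
  map {U V} i := AddCommGrpCat.ofHom
    { toFun := homRes M N (leOfHom i.unop)
      map_zero' := rfl
      map_add' := fun _ _ => rfl }

noncomputable instance homAbModule (U : (Opens X)ᵒᵖ) : Module (X.ringCatSheaf.obj.obj U) ((homAb M N).obj U) :=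
  inferInstanceAs (Module Γ(X, U.unop) (HomSec M N U.unop))

/-- The presheaf of modules of homomorphisms. -/
noncomputable def homPre : X.PresheafOfModules :=
  PresheafOfModules.ofPresheaf (homAb M N) (by
    intro U V i r φ
    refine Subtype.ext (funext fun W => LinearMap.ext fun s => ?_)
    change X.presheaf.map (homOfLE (W.2.trans (leOfHom i.unop))).op r • φ.1 ⟨W.1, W.2.trans (leOfHom i.unop)⟩ s =
      X.presheaf.map (homOfLE W.2).op (X.presheaf.map i r) • φ.1 ⟨W.1, W.2.trans (leOfHom i.unop)⟩ s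
    rw [← CommRingCat.comp_apply, ← Functor.map_comp]
    rfl)

/-- The module of homomorphisms. -/
noncomputable def homMod : X.Modules where
  val := homPre M N
  isSheaf := by
    classical
    refine (TopCat.Presheaf.isSheaf_iff_isSheafUniqueGluing (C := AddCommGrpCat.{u}) _).mpr
      fun ι U sf hc => ?_
    have hle : ∀ (V : {V : X.Opens // V ≤ iSup U}) (i : ι), V.1 ⊓ U i ≤ V.1 := fun V i => inf_le_left
    have hc' : ∀ (i j : ι) (W : X.Opens) (hi : W ≤ U i) (hj : W ≤ U j) (s : Γ(M, W)),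
        (sf i : HomSec M N (U i)).1 ⟨W, hi⟩ s = (sf j : HomSec M N (U j)).1 ⟨W, hj⟩ s := fun i j W hi hj s =>
      congrArg (fun φ : HomSec M N (U i ⊓ U j) => φ.1 ⟨W, le_inf hi hj⟩ s) (hc i j)
    have hglue : ∀ (V : {V : X.Opens // V ≤ iSup U}) (s : Γ(M, V.1)), ∃! t : Γ(N, V.1), ∀ i,
        res N (hle V i) t = (sf i : HomSec M N (U i)).1 ⟨V.1 ⊓ U i, inf_le_right⟩ (res M (hle V i) s) := by
      intro V s
      have hcov : V.1 ≤ ⨆ i, V.1 ⊓ U i := by
        intro x hx
        obtain ⟨i, hi⟩ := Opens.mem_iSup.mp (V.2 hx)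
        exact Opens.mem_iSup.mpr ⟨i, hx, hi⟩
      refine TopCat.Sheaf.existsUnique_gluing' ⟨N.presheaf, N.isSheaf⟩ (fun i => V.1 ⊓ U i) V.1
        (fun i => homOfLE (hle V i)) hcov
        (fun i => (sf i : HomSec M N (U i)).1 ⟨V.1 ⊓ U i, inf_le_right⟩ (res M (hle V i) s)) fun i j => ?_
      change res N inf_le_left _ = res N inf_le_right _
      refine (((sf i : HomSec M N (U i))).2 ⟨V.1 ⊓ U i, inf_le_right⟩
          ⟨(V.1 ⊓ U i) ⊓ (V.1 ⊓ U j), inf_le_left.trans inf_le_right⟩ inf_le_left _).symm.trans ?_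
      refine Eq.trans ?_ (((sf j : HomSec M N (U j))).2 ⟨V.1 ⊓ U j, inf_le_right⟩
          ⟨(V.1 ⊓ U i) ⊓ (V.1 ⊓ U j), inf_le_right.trans inf_le_right⟩ inf_le_right _)
      have e : res M (inf_le_left : (V.1 ⊓ U i) ⊓ (V.1 ⊓ U j) ≤ V.1 ⊓ U i) (res M (hle V i) s) =
          res M (inf_le_right : (V.1 ⊓ U i) ⊓ (V.1 ⊓ U j) ≤ V.1 ⊓ U j) (res M (hle V j) s) :=
        (rs_rs (pm M) _ _ s).trans (rs_rs (pm M) _ _ s).symm
      exact (hc' i j _ _ _ _).trans (congrArg _ e)
    choose T hT hTu using hglue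
    refine ⟨⟨fun V => { toFun := T V, map_add' := fun s t => ?_, map_smul' := fun r s => ?_ },
      fun V V' h s => ?_⟩, fun i => ?_, fun φ hφ => ?_⟩
    · refine (hTu V (s + t) _ fun i => ?_).symm
      change res N _ (T V s + T V t) = _
      rw [show res N (hle V i) (T V s + T V t) = res N (hle V i) (T V s) + res N (hle V i) (T V t) from map_add _ _ _,
        hT, hT, show res M (hle V i) (s + t) = res M (hle V i) s + res M (hle V i) t from map_add _ _ _, map_add]
    · refine (hTu V (r • s) _ fun i => ?_).symm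
      change res N _ (r • T V s) = _
      rw [show res N (hle V i) (r • T V s) = X.presheaf.map (homOfLE (hle V i)).op r • res N (hle V i) (T V s)
          from Scheme.Modules.map_smul N _ _ _,
        hT, show res M (hle V i) (r • s) = X.presheaf.map (homOfLE (hle V i)).op r • res M (hle V i) s
          from Scheme.Modules.map_smul M _ _ _, map_smul]
    · refine (hTu V' (res M h s) _ fun i => ?_).symm
      change res N (hle V' i) (res N h (T V s)) = _
      have h' : V'.1 ⊓ U i ≤ V.1 ⊓ U i := inf_le_inf_right _ h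
      rw [show res N (hle V' i) (res N h (T V s)) = res N h' (res N (hle V i) (T V s)) from
        (rs_rs (pm N) _ _ _).trans (rs_rs (pm N) _ _ _).symm, hT]
      refine (((sf i : HomSec M N (U i))).2 ⟨V.1 ⊓ U i, inf_le_right⟩ ⟨V'.1 ⊓ U i, inf_le_right⟩ h' _).symm.trans ?_
      exact congrArg _ ((rs_rs (pm M) _ _ s).trans (rs_rs (pm M) _ _ s).symm)
    · refine Subtype.ext (funext fun V => LinearMap.ext fun s => ?_)
      refine (hTu ⟨V.1, V.2.trans (le_iSup U i)⟩ s _ fun j => ?_).symm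
      refine ((sf i : HomSec M N (U i)).2 V ⟨V.1 ⊓ U j, inf_le_left.trans V.2⟩ inf_le_left s).symm.trans ?_
      exact hc' i j _ _ _ _
    · refine Subtype.ext (funext fun V => LinearMap.ext fun s => ?_)
      refine hTu V s _ fun i => ?_
      refine ((φ : HomSec M N (iSup U)).2 V ⟨V.1 ⊓ U i, inf_le_left.trans V.2⟩ inf_le_left s).symm.trans ?_
      exact congrArg (fun ψ : HomSec M N (U i) => ψ.1 ⟨V.1 ⊓ U i, inf_le_right⟩ (res M (hle V i) s)) (hφ i)

/-- Sections of `homMod` as compatible families. -/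
noncomputable def homSecOf {U : X.Opens} (φ : Γ(homMod M N, U)) : HomSec M N U := φ

/-- The evaluation pairing. -/
noncomputable def evalBiMap : BiMap (homMod M N) M N where
  f U φ s := (homSecOf M N φ).1 ⟨U, le_rfl⟩ s
  add_left U φ ψ s := rfl
  smul_left U r φ s := by
    change X.presheaf.map (homOfLE le_rfl).op r • (homSecOf M N φ).1 ⟨U, le_rfl⟩ s = _
    rw [show (homOfLE (le_refl U)).op = 𝟙 (op U) from rfl, CategoryTheory.Functor.map_id]
    rfl
  add_right U φ s t := map_add _ _ _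
  smul_right U r φ s := map_smul _ _ _
  compat {U V} h φ s := (homSecOf M N φ).2 ⟨U, le_rfl⟩ ⟨V, h⟩ h s

/-- Evaluation. -/
noncomputable def evalHom : CohB1.tensorMod (homMod M N) M ⟶ N := mkHom (evalBiMap M N)

/-- The dual of a module. -/
noncomputable abbrev dualMod : X.Modules := homMod M (Coh.structureModule X)

variable {M}

/-- A generator on an open. -/
def IsGenerator {U : X.Opens} (e : Γ(M, U)) : Prop :=
  ∀ (V : X.Opens) (h : V ≤ U), Function.Bijective fun r : Γ(X, V) => r • res M h e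

theorem exists_generator {U : X.Opens} (i : M.restrict U.ι ≅ Coh.structureModule (U : Scheme.{u})) :
    ∃ e : Γ(M, U), IsGenerator e := by
  have htop : U ≤ U.ι ''ᵁ ⊤ := fun x hx => ⟨⟨x, hx⟩, trivial, rfl⟩
  let one : Γ(Coh.structureModule (U : Scheme.{u}), ⊤) := (1 : Γ((U : Scheme.{u}), ⊤))
  refine ⟨res M htop (i.inv.app ⊤ one), fun V h => ?_⟩
  have hV : U.ι ''ᵁ (U.ι ⁻¹ᵁ V) = V := by
    ext x
    constructor
    · rintro ⟨z, hz, rfl⟩
      exact hz
    · intro hx
      exact ⟨⟨x, h hx⟩, hx, rfl⟩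
  have key : ∀ r : Γ((U : Scheme.{u}), U.ι ⁻¹ᵁ V),
      i.inv.app (U.ι ⁻¹ᵁ V) (show Γ(Coh.structureModule (U : Scheme.{u}), U.ι ⁻¹ᵁ V) from r) =
        ((U.ι.appIso (U.ι ⁻¹ᵁ V)).inv r) •
          (res M (U.ι.image_mono le_top) (i.inv.app ⊤ one) : Γ(M, U.ι ''ᵁ (U.ι ⁻¹ᵁ V))) := by
    intro r
    have e1 : (show Γ(Coh.structureModule (U : Scheme.{u}), U.ι ⁻¹ᵁ V) from r) =
        r • res (Coh.structureModule (U : Scheme.{u})) (le_top : U.ι ⁻¹ᵁ V ≤ ⊤) one := by
      change r = r * (U : Scheme.{u}).presheaf.map (homOfLE le_top).op (1 : Γ((U : Scheme.{u}), ⊤))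
      rw [map_one, mul_one]
    refine (congrArg (i.inv.app (U.ι ⁻¹ᵁ V)) e1).trans ?_
    refine (Scheme.Modules.Hom.app_smul i.inv r _).trans ?_
    congr 1
    exact (M1.app_mres i.inv (le_top : U.ι ⁻¹ᵁ V ≤ ⊤) one)
  have hb : Function.Bijective fun r : Γ(X, U.ι ''ᵁ (U.ι ⁻¹ᵁ V)) =>
      r • (res M (U.ι.image_mono le_top) (i.inv.app ⊤ one) : Γ(M, U.ι ''ᵁ (U.ι ⁻¹ᵁ V))) := by
    have h1 : Function.Bijective (i.inv.app (U.ι ⁻¹ᵁ V)) := ConcreteCategory.bijective_of_isIso _
    have h2 : Function.Bijective fun r : Γ(X, U.ι ''ᵁ (U.ι ⁻¹ᵁ V)) =>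
        (show Γ(Coh.structureModule (U : Scheme.{u}), U.ι ⁻¹ᵁ V) from (U.ι.appIso (U.ι ⁻¹ᵁ V)).hom r) :=
      ConcreteCategory.bijective_of_isIso (U.ι.appIso (U.ι ⁻¹ᵁ V)).hom
    have h3 := h1.comp h2
    refine (congrArg Function.Bijective (funext fun r => ?_)).mp h3
    refine (key _).trans ?_
    rw [← CommRingCat.comp_apply, Iso.hom_inv_id]
    rfl
  have main : ∀ (W : X.Opens) (hW : W = V) (hW' : W ≤ U.ι ''ᵁ ⊤),
      (Function.Bijective fun r : Γ(X, W) => r • res M hW' (i.inv.app ⊤ one)) →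
      Function.Bijective fun r : Γ(X, V) => r • res M h (res M htop (i.inv.app ⊤ one)) := by
    rintro W rfl hW' hb'
    simp only [show ∀ s, res M h (res M htop s) = res M hW' s from fun s => rs_rs (pm M) _ _ s]
    exact hb'
  exact main _ hV _ hb

theorem bijective_stalk_evalHom (hM : PicF.IsInvertible M) (x : X) :
    Function.Bijective ((M1.stalkAb x).map (evalHom M (Coh.structureModule X))) := by
  obtain ⟨U, hxU, ⟨i⟩⟩ := hM x
  obtain ⟨e, he⟩ := exists_generator i
  have hgen : ∀ b : (M.presheaf.stalk x : Type u), ∃ c : X.presheaf.stalk x, b = c • M.presheaf.germ U x hxU e := by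
    intro b
    obtain ⟨W, hW, s, rfl⟩ := M.presheaf.germ_exist b
    obtain ⟨r, hr⟩ := (he (W ⊓ U) inf_le_right).2 (res M inf_le_left s)
    refine ⟨X.presheaf.germ (W ⊓ U) x ⟨hW, hxU⟩ r, ?_⟩
    rw [← TopCat.Presheaf.germ_res_apply M.presheaf (homOfLE (inf_le_left : W ⊓ U ≤ W)) x ⟨hW, hxU⟩ s,
      show M.presheaf.map (homOfLE (inf_le_left : W ⊓ U ≤ W)).op s = r • res M inf_le_right e from hr.symm]
    refine (sg_smul (pm M) (U := W ⊓ U) ⟨hW, hxU⟩ r _).trans ?_
    congr 1
    exact TopCat.Presheaf.germ_res_apply M.presheaf _ x _ e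
  have ev : ∀ (W : X.Opens) (hxW : x ∈ W) (φ : Γ(dualMod M, W)) (s : Γ(M, W)),
      (M1.stalkAb x).map (evalHom M (Coh.structureModule X))
        ((stalkEquiv (dualMod M) M x).symm ((dualMod M).presheaf.germ W x hxW φ ⊗ₜ M.presheaf.germ W x hxW s)) =
        (Coh.structureModule X).presheaf.germ W x hxW ((homSecOf M _ φ).1 ⟨W, le_rfl⟩ s) := by
    intro W hxW φ s
    rw [show (stalkEquiv (dualMod M) M x).symm ((dualMod M).presheaf.germ W x hxW φ ⊗ₜ M.presheaf.germ W x hxW s) =
      (CohB1.tensorMod (dualMod M) M).presheaf.germ W x hxW (tsec (dualMod M) M φ s) from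
      (LinearEquiv.symm_apply_eq _).mpr (stalkEquiv_tsec (dualMod M) M x hxW φ s).symm]
    refine (TopCat.Presheaf.stalkFunctor_map_germ_apply W x hxW
      ((Scheme.Modules.toPresheaf X).map (evalHom M (Coh.structureModule X))) _).trans ?_
    exact congrArg _ (mkHom_tsec (evalBiMap M _) φ s)
  have hform : ∀ a : ((dualMod M).presheaf.stalk x : Type u) ⊗[X.presheaf.stalk x] (M.presheaf.stalk x : Type u),
      ∃ d, a = d ⊗ₜ M.presheaf.germ U x hxU e := by
    intro a
    induction a using TensorProduct.induction_on with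
    | zero => exact ⟨0, (TensorProduct.zero_tmul _ _).symm⟩
    | tmul d b =>
      obtain ⟨c, rfl⟩ := hgen b
      exact ⟨c • d, (TensorProduct.smul_tmul c d _).symm⟩
    | add a b iha ihb =>
      obtain ⟨d, rfl⟩ := iha
      obtain ⟨d', rfl⟩ := ihb
      exact ⟨d + d', (TensorProduct.add_tmul _ _ _).symm⟩
  refine ⟨(injective_iff_map_eq_zero ((M1.stalkAb x).map (evalHom M (Coh.structureModule X))).hom).mpr
    fun a ha => ?_, fun t => ?_⟩
  · obtain ⟨a, rfl⟩ := (stalkEquiv (dualMod M) M x).symm.surjective a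
    obtain ⟨d, rfl⟩ := hform a
    obtain ⟨W, hW, φ, rfl⟩ := (dualMod M).presheaf.germ_exist d
    have hWU : x ∈ W ⊓ U := ⟨hW, hxU⟩
    rw [← TopCat.Presheaf.germ_res_apply (dualMod M).presheaf (homOfLE (inf_le_left : W ⊓ U ≤ W)) x hWU φ,
      ← TopCat.Presheaf.germ_res_apply M.presheaf (homOfLE (inf_le_right : W ⊓ U ≤ U)) x hWU e] at ha ⊢
    erw [ev] at ha
    obtain ⟨W', hW', i₁, i₂, h0⟩ := TopCat.Presheaf.germ_eq (Coh.structureModule X).presheaf x hWU hWU _ 0
      (ha.trans (map_zero _).symm)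
    have hzero : (dualMod M).presheaf.map i₁.op ((dualMod M).presheaf.map (homOfLE (inf_le_left : W ⊓ U ≤ W)).op φ) = 0 := by
      refine Subtype.ext (funext fun V => LinearMap.ext fun s => ?_)
      change (homSecOf M _ φ).1 ⟨V.1, (V.2.trans (leOfHom i₁)).trans inf_le_left⟩ s = 0
      obtain ⟨r, rfl⟩ := (he V.1 ((V.2.trans (leOfHom i₁)).trans inf_le_right)).2 s
      refine (map_smul _ r _).trans ?_
      refine Eq.trans ?_ (smul_zero r)
      congr 1
      have hV : V.1 ≤ W ⊓ U := V.2.trans (leOfHom i₁)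
      have c1 := (homSecOf M _ φ).2 ⟨W ⊓ U, inf_le_left⟩ ⟨V.1, hV.trans inf_le_left⟩ hV (res M inf_le_right e)
      have c2 : res (Coh.structureModule X) hV ((homSecOf M _ φ).1 ⟨W ⊓ U, inf_le_left⟩ (res M inf_le_right e)) = 0 := by
        refine (rs_rs (pm (Coh.structureModule X)) (leOfHom i₁) V.2 _).symm.trans ?_
        refine Eq.trans (congrArg (res (Coh.structureModule X) V.2) h0) ?_
        exact (congrArg _ (map_zero _)).trans (map_zero _)
      refine Eq.trans ?_ (c1.trans c2)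
      exact congrArg _ (rs_rs (pm M) _ _ e).symm
    rw [← TopCat.Presheaf.germ_res_apply (dualMod M).presheaf i₁ x hW', hzero, map_zero, TensorProduct.zero_tmul, map_zero]
  · obtain ⟨W, hW, r, rfl⟩ := (Coh.structureModule X).presheaf.germ_exist t
    have hWU : x ∈ W ⊓ U := ⟨hW, hxU⟩
    let q : ∀ V : {V : X.Opens // V ≤ W ⊓ U}, Γ(X, V.1) ≃ₗ[Γ(X, V.1)] (Γ(M, V.1) : Type u) := fun V =>
      LinearEquiv.ofBijective
        ((LinearMap.id : Γ(X, V.1) →ₗ[Γ(X, V.1)] Γ(X, V.1)).smulRight (res M (V.2.trans inf_le_right) e))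
        (he V.1 (V.2.trans inf_le_right))
    have hq : ∀ V (c : Γ(X, V.1)), q V c = c • res M (V.2.trans inf_le_right) e := fun V c => rfl
    let φ₀ : HomSec M (Coh.structureModule X) (W ⊓ U) :=
      ⟨fun V => ((LinearMap.id : Γ(X, V.1) →ₗ[Γ(X, V.1)] Γ(X, V.1)).smulRight
          (res (Coh.structureModule X) (V.2.trans inf_le_left) r)).comp (q V).symm.toLinearMap,
        fun V V' h s => by
          obtain ⟨c, rfl⟩ := (q V).surjective s
          have e1 : res M h (q V c) = q V' (X.presheaf.map (homOfLE h).op c) := by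
            rw [hq, hq]
            refine (Scheme.Modules.map_smul M (homOfLE h) c _).trans ?_
            congr 1
            exact rs_rs (pm M) _ _ e
          change (q V').symm (res M h (q V c)) • res (Coh.structureModule X) _ r =
            res (Coh.structureModule X) h ((q V).symm (q V c) • res (Coh.structureModule X) _ r)
          rw [e1, LinearEquiv.symm_apply_apply, LinearEquiv.symm_apply_apply]
          refine Eq.trans ?_ (Scheme.Modules.map_smul (Coh.structureModule X) (homOfLE h) c _).symm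
          congr 1
          exact (rs_rs (pm (Coh.structureModule X)) _ _ r).symm⟩
    refine ⟨(stalkEquiv (dualMod M) M x).symm
      ((dualMod M).presheaf.germ (W ⊓ U) x hWU φ₀ ⊗ₜ M.presheaf.germ (W ⊓ U) x hWU (res M inf_le_right e)), ?_⟩
    refine (ev (W ⊓ U) hWU φ₀ _).trans ?_
    rw [← TopCat.Presheaf.germ_res_apply (Coh.structureModule X).presheaf (homOfLE (inf_le_left : W ⊓ U ≤ W)) x hWU r]
    congr 1
    change ((q ⟨W ⊓ U, le_rfl⟩).symm (res M (inf_le_right : W ⊓ U ≤ U) e) : Γ(X, W ⊓ U)) •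
      res (Coh.structureModule X) (inf_le_left : W ⊓ U ≤ W) r = res (Coh.structureModule X) (inf_le_left : W ⊓ U ≤ W) r
    rw [show (q ⟨W ⊓ U, le_rfl⟩).symm (res M inf_le_right e) = 1 from
      (LinearEquiv.symm_apply_eq _).mpr ((hq _ 1).trans (one_smul _ _)).symm, one_smul]

/-- Evaluation is an isomorphism for invertible modules. -/
theorem isIso_evalHom (hM : PicF.IsInvertible M) : IsIso (evalHom M (Coh.structureModule X)) :=
  (M1.isIso_iff_stalk _).mpr (bijective_stalk_evalHom hM)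

/-- `L^∨ ⊗ L ≅ O`. -/
noncomputable def dualTensorIso (hM : PicF.IsInvertible M) :
    CohB1.tensorMod (dualMod M) M ≅ Coh.structureModule X :=
  @asIso _ _ _ _ (evalHom M (Coh.structureModule X)) (isIso_evalHom hM)

/-- A tensor inverse of an invertible module is invertible. -/
theorem isInvertible_of_tensor_iso {D : X.Modules} (hM : PicF.IsInvertible M)
    (e : CohB1.tensorMod D M ≅ Coh.structureModule X) : PicF.IsInvertible D := fun y => by
  obtain ⟨U, hU, ⟨i⟩⟩ := hM y
  exact ⟨U, hU, ⟨(tensorRUnit _).symm ≪≫ tensorIso (Iso.refl _) i.symm ≪≫ (restrictTensorIso U.ι D M).symm ≪≫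
    (Scheme.Modules.restrictFunctor U.ι).mapIso e ≪≫ Scheme.Modules.restrictUnitIso U.ι⟩⟩

theorem isInvertible_dualMod (hM : PicF.IsInvertible M) : PicF.IsInvertible (dualMod M) :=
  isInvertible_of_tensor_iso hM (dualTensorIso hM)

/-- Invertible modules have inverses. -/
theorem exists_inverse (hM : PicF.IsInvertible M) :
    ∃ D : X.Modules, PicF.IsInvertible D ∧ Nonempty (CohB1.tensorMod M D ≅ Coh.structureModule X) :=
  ⟨dualMod M, isInvertible_dualMod hM, ⟨tensorComm _ _ ≪≫ dualTensorIso hM⟩⟩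

/-- Inverses are unique. -/
noncomputable def inverseUnique {D D' : X.Modules} (e : CohB1.tensorMod M D ≅ Coh.structureModule X)
    (e' : CohB1.tensorMod M D' ≅ Coh.structureModule X) : D ≅ D' :=
  (tensorRUnit D).symm ≪≫ tensorIso (Iso.refl D) e'.symm ≪≫ (tensorAssoc D M D').symm ≪≫
    tensorIso (tensorComm D M ≪≫ e) (Iso.refl D') ≪≫ tensorLUnit D'

end Groth.Agent.M2
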