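import Groth.Agent.Lib.TensorMod.Invertible
import Groth.Agent.Lib.Twist.Triv

/-!
A module with a tensor inverse is invertible.
-/

universe u

open CategoryTheory Limits AlgebraicGeometry TopologicalSpace Opposite TensorProduct

set_option backward.isDefEq.respectTransparency false

namespace Groth.Agent.M2

variable {X : Scheme.{u}} {L N : X.Modules}

/-- If `L ⊗ N ≅ O` sends `s ⊗ t` to `1`, then `L ≅ O`. -/
theorem nonempty_iso_of_unit_pairing (e : CohB1.tensorMod L N ≅ Coh.structureModule X)
    (s : Γ(L, ⊤)) (t : Γ(N, ⊤))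
    (h : e.hom.app ⊤ (tsec L N s t) = (show Γ(Coh.structureModule X, ⊤) from (1 : Γ(X, ⊤)))) :
    Nonempty (L ≅ Coh.structureModule X) := by
  let ev : ∀ V : X.Opens, Γ(L, V) → Γ(N, V) → Γ(X, V) := fun V l n => e.hom.app V (tsec L N l n)
  have evst : ∀ V : X.Opens, ev V (res L le_top s) (res N le_top t) = 1 := by
    intro V
    change e.hom.app V (tsec L N _ _) = _
    rw [← res_tsec, res, M1.map_app_eq, h]
    exact map_one (X.presheaf.map (homOfLE (le_top : V ≤ ⊤)).op).hom
  have ev_add : ∀ V (l : Γ(L, V)) n n', ev V l (n + n') = ev V l n + ev V l n' := fun V l n n' => by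
    change e.hom.app V _ = e.hom.app V _ + e.hom.app V _
    rw [tsec_add_right]
    exact map_add _ _ _
  have ev_smul : ∀ V (r : Γ(X, V)) (l : Γ(L, V)) n, ev V l (r • n) = r * ev V l n := fun V r l n => by
    change e.hom.app V _ = _
    rw [tsec_smul_right, Scheme.Modules.Hom.app_smul]
    rfl
  have ev_smul' : ∀ V (r : Γ(X, V)) (l : Γ(L, V)) n, ev V (r • l) n = r * ev V l n := fun V r l n => by
    change e.hom.app V _ = _
    rw [tsec_smul_left, Scheme.Modules.Hom.app_smul]
    rfl
  have ev_res : ∀ {V W : X.Opens} (hW : W ≤ V) (l : Γ(L, V)) (n : Γ(N, V)),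
      ev W (res L hW l) (res N hW n) = X.presheaf.map (homOfLE hW).op (ev V l n) := fun {V W} hW l n => by
    change e.hom.app W _ = _
    rw [← res_tsec]
    exact M1.map_app_eq e.hom hW _
  let Φ : BiMap L N L :=
    { f := fun V l n => ev V (res L le_top s) n • l
      add_left := fun V l l' n => smul_add _ _ _
      smul_left := fun V r l n => smul_comm _ r l
      add_right := fun V l n n' => by rw [ev_add, add_smul]
      smul_right := fun V r l n => by rw [ev_smul, mul_smul]
      compat := fun {V W} hW l n => by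
        refine Eq.trans ?_ (Scheme.Modules.map_smul L (homOfLE hW) (ev V (res L le_top s) n) l).symm
        refine congrArg (fun q : Γ(X, W) => q • res L hW l) ?_
        refine Eq.trans ?_ (ev_res hW _ _)
        exact congrArg (fun q => ev W q _) (rs_rs (pm L) _ _ s).symm }
  refine Twist.nonempty_iso_of_generator L s fun U => ⟨fun r r' hr => ?_, fun l => ?_⟩
  · have := congrArg (fun q => ev U q (res N le_top t)) hr
    dsimp only at this
    rw [ev_smul', ev_smul'] at this
    change r * ev U (res L le_top s) _ = r' * ev U (res L le_top s) _ at this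
    rwa [evst, mul_one, mul_one] at this
  · refine ⟨ev U l (res N le_top t), ?_⟩
    have hcancel : Function.Injective (e.hom.app U) := (ConcreteCategory.bijective_of_isIso (e.hom.app U)).1
    have e1 : tsec L N l (res N le_top t) =
        ev U l (res N le_top t) • tsec L N (res L le_top s) (res N le_top t) := by
      refine hcancel ?_
      rw [Scheme.Modules.Hom.app_smul]
      refine Eq.trans ?_ (congrArg (fun q : Γ(X, U) => ev U l (res N le_top t) * q) (evst U)).symm
      exact (mul_one (ev U l (res N le_top t))).symm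
    have := congrArg ((mkHom Φ).app U) e1
    rw [Scheme.Modules.Hom.app_smul, mkHom_tsec, mkHom_tsec] at this
    change ev U (res L le_top s) (res N le_top t) • l =
      ev U l (res N le_top t) • ev U (res L le_top s) (res N le_top t) • res L le_top s at this
    rw [evst, one_smul, one_smul] at this
    exact this.symm

/-- A module with a tensor inverse is invertible. -/
theorem isInvertible_of_tensor_iso_unit (L N : X.Modules) (e : CohB1.tensorMod L N ≅ Coh.structureModule X) :
    PicF.IsInvertible L := by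
  intro x
  let ev : ∀ V : X.Opens, Γ(CohB1.tensorMod L N, V) → Γ(X, V) := fun V z => e.hom.app V z
  have ev_res : ∀ {V W : X.Opens} (hW : W ≤ V) (z : Γ(CohB1.tensorMod L N, V)),
      ev W (res _ hW z) = X.presheaf.map (homOfLE hW).op (ev V z) := fun {V W} hW z => M1.map_app_eq e.hom hW z
  have key : ∀ a : (L.presheaf.stalk x : Type u) ⊗[X.presheaf.stalk x] (N.presheaf.stalk x : Type u),
      ∃ (W : X.Opens) (hW : x ∈ W) (z : Γ(CohB1.tensorMod L N, W)),
        stalkEquiv L N x ((CohB1.tensorMod L N).presheaf.germ W x hW z) = a ∧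
        (IsUnit (X.presheaf.germ W x hW (ev W z)) →
          ∃ (V : X.Opens) (hV : x ∈ V) (s : Γ(L, V)) (t : Γ(N, V)),
            IsUnit (X.presheaf.germ V x hV (ev V (tsec L N s t)))) := by
    intro a
    induction a using TensorProduct.induction_on with
    | zero =>
      refine ⟨⊤, trivial, 0, by rw [map_zero, map_zero], fun hu => absurd hu ?_⟩
      rw [show ev ⊤ 0 = 0 from map_zero _, map_zero]
      exact not_isUnit_zero
    | tmul m n =>
      obtain ⟨W, hW, s, t, rfl, rfl⟩ := exists_sg₂ (pm L) (pm N) m n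
      exact ⟨W, hW, tsec L N s t, stalkEquiv_tsec L N x hW s t, fun hu => ⟨W, hW, s, t, hu⟩⟩
    | add a b ha hb =>
      obtain ⟨W, hW, z, hz, hzu⟩ := ha
      obtain ⟨W', hW', z', hz', hzu'⟩ := hb
      have hh : x ∈ W ⊓ W' := ⟨hW, hW'⟩
      refine ⟨W ⊓ W', hh, res _ inf_le_left z + res _ inf_le_right z', ?_, fun hu => ?_⟩
      · rw [map_add, map_add, ← hz, ← hz']
        congr 1
        · exact congrArg _ (TopCat.Presheaf.germ_res_apply _ _ x hh z)
        · exact congrArg _ (TopCat.Presheaf.germ_res_apply _ _ x hh z')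
      · rw [show ev (W ⊓ W') (res _ inf_le_left z + res _ inf_le_right z') =
          ev _ (res _ inf_le_left z) + ev _ (res _ inf_le_right z') from map_add _ _ _,
          map_add, ev_res, ev_res, TopCat.Presheaf.germ_res_apply, TopCat.Presheaf.germ_res_apply] at hu
        exact (IsLocalRing.isUnit_or_isUnit_of_isUnit_add hu).elim hzu hzu'
  let z₀ : Γ(CohB1.tensorMod L N, ⊤) :=
    e.inv.app ⊤ (show Γ(Coh.structureModule X, ⊤) from (1 : Γ(X, ⊤)))
  have hz₀ : ev ⊤ z₀ = 1 :=
    congrArg (fun φ => φ.app ⊤ (show Γ(Coh.structureModule X, ⊤) from (1 : Γ(X, ⊤)))) e.inv_hom_id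
  obtain ⟨W, hW, z, hz, hzu⟩ := key (stalkEquiv L N x ((CohB1.tensorMod L N).presheaf.germ ⊤ x trivial z₀))
  obtain ⟨V, hV, s, t, hu⟩ := hzu (by
    obtain ⟨W', hW', i, i', he⟩ := TopCat.Presheaf.germ_eq (CohB1.tensorMod L N).presheaf x hW (show x ∈ (⊤ : X.Opens) from trivial) z z₀
      ((stalkEquiv L N x).injective hz)
    have h1 : X.presheaf.map i.op (ev W z) = X.presheaf.map i'.op (ev ⊤ z₀) :=
      (M1.map_app_eq e.hom (leOfHom i) z).symm.trans
        ((congrArg (e.hom.app W') he).trans (M1.map_app_eq e.hom (leOfHom i') z₀))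
    rw [← TopCat.Presheaf.germ_res_apply X.presheaf i x hW' (ev W z), h1, hz₀, map_one, map_one]
    exact isUnit_one)
  have hxb : x ∈ X.basicOpen (ev V (tsec L N s t)) :=
    (Scheme.mem_basicOpen X (ev V (tsec L N s t)) x hV).mpr hu
  let D : X.Opens := X.basicOpen (ev V (tsec L N s t))
  have hDV : D ≤ V := X.basicOpen_le _
  obtain ⟨c, hc⟩ : ∃ c : Γ(X, D), X.presheaf.map (homOfLE hDV).op (ev V (tsec L N s t)) * c = 1 :=
    (RingedSpace.isUnit_res_basicOpen X.toRingedSpace (ev V (tsec L N s t))).exists_right_inv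
  have htop : D.ι ''ᵁ ⊤ ≤ D := by
    rintro y ⟨z, -, rfl⟩
    exact z.2
  let e' : CohB1.tensorMod (L.restrict D.ι) (N.restrict D.ι) ≅ Coh.structureModule (D : Scheme.{u}) :=
    (restrictTensorIso D.ι L N).symm ≪≫ (Scheme.Modules.restrictFunctor D.ι).mapIso e ≪≫
      Scheme.Modules.restrictUnitIso D.ι
  refine ⟨D, hxb, nonempty_iso_of_unit_pairing e' (res L htop (c • res L hDV s) : Γ(L, D.ι ''ᵁ ⊤))
    (res N (htop.trans hDV) t : Γ(N, D.ι ''ᵁ ⊤)) ?_⟩
  change (Scheme.Modules.restrictUnitIso D.ι).hom.app ⊤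
    (((Scheme.Modules.restrictFunctor D.ι).map e.hom).app ⊤
      ((toRestrict D.ι L N).app ⊤ (tsec (L.restrict D.ι) (N.restrict D.ι) _ _))) = _
  erw [toRestrict, mkHom_tsec]
  have h2 : ev (D.ι ''ᵁ ⊤) (tsec L N (res L htop (c • res L hDV s)) (res N (htop.trans hDV) t)) = 1 := by
    have h3 : ev D (tsec L N (c • res L hDV s) (res N hDV t)) = 1 := by
      rw [tsec_smul_left, ← res_tsec]
      refine (Scheme.Modules.Hom.app_smul e.hom c _).trans ?_
      change c * ev D (res _ hDV (tsec L N s t)) = 1
      rw [ev_res, mul_comm]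
      exact hc
    rw [show res N (htop.trans hDV) t = res N htop (res N hDV t) from (rs_rs (pm N) _ _ t).symm,
      ← res_tsec, ev_res, h3, map_one]
  change (D.ι.appIso ⊤).hom (ev (D.ι ''ᵁ ⊤) (tsec L N (res L htop (c • res L hDV s)) (res N (htop.trans hDV) t))) = 1
  rw [h2, map_one]

end Groth.Agent.M2
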