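import Mathlib.Algebra.Category.ModuleCat.Presheaf.Monoidal
import Mathlib.Algebra.Category.ModuleCat.Stalk
import Mathlib.LinearAlgebra.TensorProduct.Basic
import Mathlib.Topology.Sheaves.Stalks

/-!
The stalk of a sectionwise tensor product of presheaves of modules is the tensor product of the
stalks, naturally.
-/

universe u

open CategoryTheory MonoidalCategory TopologicalSpace Opposite TensorProduct Limits

set_option backward.isDefEq.respectTransparency false

namespace Groth.Agent.M2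

variable {X : TopCat.{u}} {R : X.Presheaf CommRingCat.{u}}

/-- Presheaves of modules over `R`. -/
abbrev PM (R : X.Presheaf CommRingCat.{u}) : Type (u + 1) :=
  PresheafOfModules.{u} (R ⋙ forget₂ CommRingCat RingCat.{u})

variable (P Q : PM R) {x : X}

/-- The stalk. -/
noncomputable abbrev st (P : PM R) (x : X) : AddCommGrpCat.{u} := TopCat.Presheaf.stalk P.presheaf x

/-- The germ, as an additive map. -/
noncomputable def sg (U : Opens X) (hx : x ∈ U) : P.obj (op U) →+ (st P x : Type u) :=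
  (TopCat.Presheaf.germ P.presheaf U x hx).hom

/-- Restriction of sections. -/
noncomputable def rs {U V : Opens X} (h : V ≤ U) : P.obj (op U) →+ P.obj (op V) :=
  (P.presheaf.map (homOfLE h).op).hom

theorem sg_rs {U V : Opens X} (h : V ≤ U) (hx : x ∈ V) (s : P.obj (op U)) :
    sg P V hx (rs P h s) = sg P U (h hx) s :=
  TopCat.Presheaf.germ_res_apply P.presheaf (homOfLE h) x hx s

theorem exists_sg (a : st P x) : ∃ (U : Opens X) (hx : x ∈ U) (s : P.obj (op U)), sg P U hx s = a :=
  TopCat.Presheaf.germ_exist P.presheaf a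

theorem sg_eq {U V : Opens X} {hU : x ∈ U} {hV : x ∈ V} {s : P.obj (op U)} {t : P.obj (op V)}
    (h : sg P U hU s = sg P V hV t) :
    ∃ (W : Opens X) (_ : x ∈ W) (iU : W ≤ U) (iV : W ≤ V), rs P iU s = rs P iV t := by
  obtain ⟨W, hW, iU, iV, e⟩ := TopCat.Presheaf.germ_eq P.presheaf x hU hV s t h
  exact ⟨W, hW, leOfHom iU, leOfHom iV, e⟩

theorem sg_smul {U : Opens X} (hx : x ∈ U) (r : R.obj (op U)) (s : P.obj (op U)) :
    sg P U hx (r • s) = R.germ U x hx r • sg P U hx s :=
  PresheafOfModules.germ_smul P x U hx r s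

theorem rs_rs {U V W : Opens X} (h : V ≤ U) (h' : W ≤ V) (s : P.obj (op U)) :
    rs P h' (rs P h s) = rs P (h'.trans h) s :=
  (ConcreteCategory.congr_hom (P.presheaf.map_comp (homOfLE h).op (homOfLE h').op) s).symm

/-- The pure tensor of two sections. -/
noncomputable def tm {U : Opens X} (s : P.obj (op U)) (t : Q.obj (op U)) : (P ⊗ Q).obj (op U) :=
  TensorProduct.tmul (R.obj (op U)) s t

theorem tm_add {U : Opens X} (s : P.obj (op U)) (t t' : Q.obj (op U)) :
    tm P Q s (t + t') = tm P Q s t + tm P Q s t' :=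
  TensorProduct.tmul_add (R := R.obj (op U)) s t t'

theorem add_tm {U : Opens X} (s s' : P.obj (op U)) (t : Q.obj (op U)) :
    tm P Q (s + s') t = tm P Q s t + tm P Q s' t :=
  TensorProduct.add_tmul (R := R.obj (op U)) s s' t

theorem smul_tm {U : Opens X} (r : R.obj (op U)) (s : P.obj (op U)) (t : Q.obj (op U)) :
    tm P Q (r • s) t = tm P Q s (r • t) :=
  TensorProduct.smul_tmul (R := R.obj (op U)) (R' := R.obj (op U)) r s t

theorem rs_tm {U V : Opens X} (h : V ≤ U) (s : P.obj (op U)) (t : Q.obj (op U)) :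
    rs (P ⊗ Q) h (tm P Q s t) = tm P Q (rs P h s) (rs Q h t) :=
  PresheafOfModules.Monoidal.tensorObj_map_tmul (M₁ := P) (M₂ := Q) (homOfLE h).op s t

theorem sg_tm_eq {U V U' V' : Opens X} {hU : x ∈ U} {hV : x ∈ V} {hU' : x ∈ U'} {hV' : x ∈ V'}
    {s : P.obj (op U)} {t : Q.obj (op V)} {s' : P.obj (op U')} {t' : Q.obj (op V')}
    (hs : sg P U hU s = sg P U' hU' s') (ht : sg Q V hV t = sg Q V' hV' t') :
    sg (P ⊗ Q) (U ⊓ V) ⟨hU, hV⟩ (tm P Q (rs P inf_le_left s) (rs Q inf_le_right t)) =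
      sg (P ⊗ Q) (U' ⊓ V') ⟨hU', hV'⟩ (tm P Q (rs P inf_le_left s') (rs Q inf_le_right t')) := by
  obtain ⟨W₁, hW₁, a, a', ea⟩ := sg_eq P hs
  obtain ⟨W₂, hW₂, b, b', eb⟩ := sg_eq Q ht
  have hx : x ∈ W₁ ⊓ W₂ := ⟨hW₁, hW₂⟩
  have i : W₁ ⊓ W₂ ≤ U ⊓ V := inf_le_inf a b
  have i' : W₁ ⊓ W₂ ≤ U' ⊓ V' := inf_le_inf a' b'
  rw [← sg_rs (P ⊗ Q) i hx, ← sg_rs (P ⊗ Q) i' hx, rs_tm, rs_tm, rs_rs, rs_rs, rs_rs, rs_rs,
    ← rs_rs P a (inf_le_left : W₁ ⊓ W₂ ≤ W₁) s, ea, rs_rs,
    ← rs_rs Q b (inf_le_right : W₁ ⊓ W₂ ≤ W₂) t, eb, rs_rs]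

/-- The germ of a pure tensor, as a function of the two germs. -/
noncomputable def germTm (a : st P x) (b : st Q x) : (st (P ⊗ Q) x : Type u) :=
  sg (P ⊗ Q) ((exists_sg P a).choose ⊓ (exists_sg Q b).choose)
    ⟨(exists_sg P a).choose_spec.choose, (exists_sg Q b).choose_spec.choose⟩
    (tm P Q (rs P inf_le_left (exists_sg P a).choose_spec.choose_spec.choose)
      (rs Q inf_le_right (exists_sg Q b).choose_spec.choose_spec.choose))

theorem germTm_sg {U : Opens X} (hx : x ∈ U) (s : P.obj (op U)) (t : Q.obj (op U)) :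
    germTm P Q (sg P U hx s) (sg Q U hx t) = sg (P ⊗ Q) U hx (tm P Q s t) := by
  refine (sg_tm_eq P Q (hU' := hx) (hV' := hx)
    (exists_sg P (sg P U hx s)).choose_spec.choose_spec.choose_spec
    (exists_sg Q (sg Q U hx t)).choose_spec.choose_spec.choose_spec).trans ?_
  rw [← rs_tm, sg_rs]

theorem exists_sg₂ (a : st P x) (b : st Q x) :
    ∃ (U : Opens X) (hx : x ∈ U) (s : P.obj (op U)) (t : Q.obj (op U)),
      sg P U hx s = a ∧ sg Q U hx t = b := by
  obtain ⟨U, hU, s, rfl⟩ := exists_sg P a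
  obtain ⟨V, hV, t, rfl⟩ := exists_sg Q b
  exact ⟨U ⊓ V, ⟨hU, hV⟩, rs P inf_le_left s, rs Q inf_le_right t, sg_rs .., sg_rs ..⟩

theorem germTm_add_left (a a' : st P x) (b : st Q x) :
    germTm P Q (a + a') b = germTm P Q a b + germTm P Q a' b := by
  obtain ⟨U, hU, s, s', rfl, rfl⟩ := exists_sg₂ P P a a'
  obtain ⟨V, hV, t, rfl⟩ := exists_sg Q b
  have hW : x ∈ U ⊓ V := ⟨hU, hV⟩
  rw [← sg_rs P inf_le_left hW s, ← sg_rs P inf_le_left hW s', ← sg_rs Q inf_le_right hW t,
    ← map_add, germTm_sg, germTm_sg, germTm_sg]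
  rw [add_tm, map_add]

theorem germTm_add_right (a : st P x) (b b' : st Q x) :
    germTm P Q a (b + b') = germTm P Q a b + germTm P Q a b' := by
  obtain ⟨V, hV, t, t', rfl, rfl⟩ := exists_sg₂ Q Q b b'
  obtain ⟨U, hU, s, rfl⟩ := exists_sg P a
  have hW : x ∈ U ⊓ V := ⟨hU, hV⟩
  rw [← sg_rs P inf_le_left hW s, ← sg_rs Q inf_le_right hW t, ← sg_rs Q inf_le_right hW t',
    ← map_add, germTm_sg, germTm_sg, germTm_sg]
  rw [tm_add, map_add]

theorem germTm_smul (r : R.stalk x) (a : st P x) (b : st Q x) :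
    germTm P Q (r • a) b = germTm P Q a (r • b) := by
  obtain ⟨U, hU, s, t, rfl, rfl⟩ := exists_sg₂ P Q a b
  obtain ⟨V, hV, c, rfl⟩ := R.germ_exist r
  have hW : x ∈ U ⊓ V := ⟨hU, hV⟩
  rw [← sg_rs P inf_le_left hW s, ← sg_rs Q inf_le_left hW t,
    ← TopCat.Presheaf.germ_res_apply R (homOfLE (inf_le_right : U ⊓ V ≤ V)) x hW c, ← sg_smul,
    ← sg_smul, germTm_sg, germTm_sg]
  congr 1
  exact smul_tm ..

/-- The stalk of the tensor product receives the tensor product of stalks. -/
noncomputable def fromTensor (x : X) :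
    (st P x : Type u) ⊗[R.stalk x] (st Q x : Type u) →+ (st (P ⊗ Q) x : Type u) :=
  TensorProduct.liftAddHom
    (AddMonoidHom.mk' (fun a => AddMonoidHom.mk' (fun b => germTm P Q a b) (germTm_add_right P Q a))
      fun a a' => AddMonoidHom.ext fun b => germTm_add_left P Q a a' b)
    fun r a b => germTm_smul P Q r a b

theorem fromTensor_tmul {U : Opens X} (hx : x ∈ U) (s : P.obj (op U)) (t : Q.obj (op U)) :
    fromTensor P Q x (sg P U hx s ⊗ₜ sg Q U hx t) = sg (P ⊗ Q) U hx (tm P Q s t) :=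
  germTm_sg P Q hx s t

/-- The component at `U` of the map to the tensor product of stalks. -/
noncomputable def toTensorApp (U : Opens X) (hx : x ∈ U) :
    (P ⊗ Q).obj (op U) →+ (st P x : Type u) ⊗[R.stalk x] (st Q x : Type u) :=
  TensorProduct.liftAddHom (R := R.obj (op U)) (M := P.obj (op U)) (N := Q.obj (op U))
    (AddMonoidHom.mk' (fun s => AddMonoidHom.mk' (fun t => sg P U hx s ⊗ₜ sg Q U hx t)
        fun t t' => by rw [map_add, TensorProduct.tmul_add])
      fun s s' => AddMonoidHom.ext fun t => by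
        simp only [AddMonoidHom.mk'_apply, AddMonoidHom.add_apply, map_add, TensorProduct.add_tmul])
    fun r s t => by
      simp only [AddMonoidHom.mk'_apply, sg_smul, TensorProduct.smul_tmul]

theorem toTensorApp_tm (U : Opens X) (hx : x ∈ U) (s : P.obj (op U)) (t : Q.obj (op U)) :
    toTensorApp P Q U hx (tm P Q s t) = sg P U hx s ⊗ₜ sg Q U hx t := rfl

theorem tensor_induction {U : Opens X} {motive : (P ⊗ Q).obj (op U) → Prop} (z : (P ⊗ Q).obj (op U))
    (zero : motive 0) (tm' : ∀ s t, motive (tm P Q s t))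
    (add : ∀ a b, motive a → motive b → motive (a + b)) : motive z :=
  TensorProduct.induction_on (R := R.obj (op U)) (M := P.obj (op U)) (N := Q.obj (op U)) z zero tm' add

/-- The stalk of the tensor product maps to the tensor product of stalks. -/
noncomputable def toTensor (x : X) :
    (st (P ⊗ Q) x : Type u) →+ (st P x : Type u) ⊗[R.stalk x] (st Q x : Type u) :=
  (colimit.desc ((OpenNhds.inclusion x).op ⋙ (P ⊗ Q).presheaf)
    { pt := AddCommGrpCat.of ((st P x : Type u) ⊗[R.stalk x] (st Q x : Type u))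
      ι :=
        { app := fun U => AddCommGrpCat.ofHom (toTensorApp P Q U.unop.1 U.unop.2)
          naturality := fun U V i => by
            ext z
            change toTensorApp P Q V.unop.1 V.unop.2
                (rs (P ⊗ Q) (leOfHom ((OpenNhds.inclusion x).map i.unop)) z) =
              toTensorApp P Q U.unop.1 U.unop.2 z
            induction z using tensor_induction P Q with
            | zero => rw [map_zero, map_zero, map_zero]
            | tm' s t =>
              rw [rs_tm, toTensorApp_tm, toTensorApp_tm]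
              exact congrArg₂ (· ⊗ₜ ·) (sg_rs P _ V.unop.2 s) (sg_rs Q _ V.unop.2 t)
            | add a b ha hb => rw [map_add, map_add, map_add, ha, hb] } }).hom

theorem toTensor_sg {U : Opens X} (hx : x ∈ U) (z : (P ⊗ Q).obj (op U)) :
    toTensor P Q x (sg (P ⊗ Q) U hx z) = toTensorApp P Q U hx z := by
  unfold toTensor
  exact ConcreteCategory.congr_hom
    (colimit.ι_desc (F := (OpenNhds.inclusion x).op ⋙ (P ⊗ Q).presheaf) _ (op ⟨U, hx⟩)) z

/-- `(P ⊗ Q)_x ≃ P_x ⊗ Q_x`. -/
noncomputable def stalkTensorEquiv (x : X) :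
    (st (P ⊗ Q) x : Type u) ≃ₗ[R.stalk x] (st P x : Type u) ⊗[R.stalk x] (st Q x : Type u) where
  toFun := toTensor P Q x
  invFun := fromTensor P Q x
  map_add' := map_add _
  map_smul' r a := by
    obtain ⟨U, hU, z, rfl⟩ := exists_sg (P ⊗ Q) a
    obtain ⟨V, hV, c, rfl⟩ := R.germ_exist r
    have hW : x ∈ U ⊓ V := ⟨hU, hV⟩
    rw [← sg_rs (P ⊗ Q) inf_le_left hW z,
      ← TopCat.Presheaf.germ_res_apply R (homOfLE (inf_le_right : U ⊓ V ≤ V)) x hW c, ← sg_smul,
      toTensor_sg, toTensor_sg, RingHom.id_apply]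
    induction rs (P ⊗ Q) (inf_le_left : U ⊓ V ≤ U) z using tensor_induction P Q with
    | zero => rw [smul_zero, map_zero, smul_zero]
    | tm' s t =>
      rw [toTensorApp_tm, TensorProduct.smul_tmul', ← sg_smul]
      rfl
    | add a b ha hb => rw [smul_add, map_add, ha, hb, map_add, smul_add]
  left_inv a := by
    obtain ⟨U, hU, z, rfl⟩ := exists_sg (P ⊗ Q) a
    rw [toTensor_sg]
    induction z using tensor_induction P Q with
    | zero => rw [map_zero, map_zero, map_zero]
    | tm' s t => rw [toTensorApp_tm, fromTensor_tmul]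
    | add a b ha hb => rw [map_add, map_add, map_add, ha, hb]
  right_inv a := by
    induction a using TensorProduct.induction_on with
    | zero => rw [map_zero, map_zero]
    | tmul a b =>
      obtain ⟨U, hU, s, t, rfl, rfl⟩ := exists_sg₂ P Q a b
      rw [fromTensor_tmul, toTensor_sg, toTensorApp_tm]
    | add a b ha hb => rw [map_add, map_add, ha, hb]

theorem stalkTensorEquiv_sg {U : Opens X} (hx : x ∈ U) (s : P.obj (op U)) (t : Q.obj (op U)) :
    stalkTensorEquiv P Q x (sg (P ⊗ Q) U hx (tm P Q s t)) = sg P U hx s ⊗ₜ sg Q U hx t :=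
  toTensor_sg P Q hx _

/-- The stalk map of a morphism. -/
noncomputable def stMap {P Q : PM R} (f : P ⟶ Q) (x : X) :
    (st P x : Type u) →ₗ[R.stalk x] (st Q x : Type u) where
  toFun := ((TopCat.Presheaf.stalkFunctor AddCommGrpCat.{u} x).map ((PresheafOfModules.toPresheaf _).map f)).hom
  map_add' := map_add _
  map_smul' r a := by
    obtain ⟨U, hU, s, rfl⟩ := exists_sg P a
    obtain ⟨V, hV, c, rfl⟩ := R.germ_exist r
    have hW : x ∈ U ⊓ V := ⟨hU, hV⟩
    rw [← sg_rs P inf_le_left hW s,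
      ← TopCat.Presheaf.germ_res_apply R (homOfLE (inf_le_right : U ⊓ V ≤ V)) x hW c, ← sg_smul,
      RingHom.id_apply]
    simp only [sg]
    erw [TopCat.Presheaf.stalkFunctor_map_germ_apply, TopCat.Presheaf.stalkFunctor_map_germ_apply]
    refine Eq.trans ?_ (sg_smul Q hW _ _)
    exact congrArg (sg Q (U ⊓ V) hW) ((f.app (op (U ⊓ V))).hom.map_smul _ _)

theorem stMap_sg {P Q : PM R} (f : P ⟶ Q) {U : Opens X} (hx : x ∈ U) (s : P.obj (op U)) :
    stMap f x (sg P U hx s) = sg Q U hx (f.app (op U) s) :=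
  TopCat.Presheaf.stalkFunctor_map_germ_apply U x hx ((PresheafOfModules.toPresheaf _).map f) s

theorem stMap_tensorHom {P P' Q Q' : PM R} (f : P ⟶ P') (g : Q ⟶ Q') (x : X) (z : st (P ⊗ Q) x) :
    stalkTensorEquiv P' Q' x (stMap (f ⊗ₘ g) x z) =
      TensorProduct.map (stMap f x) (stMap g x) (stalkTensorEquiv P Q x z) := by
  obtain ⟨U, hU, z, rfl⟩ := exists_sg (P ⊗ Q) z
  induction z using tensor_induction P Q with
  | zero => simp
  | tm' s t =>
    rw [stalkTensorEquiv_sg, TensorProduct.map_tmul, stMap_sg, stMap_sg, stMap_sg]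
    exact stalkTensorEquiv_sg P' Q' hU _ _
  | add a b ha hb => simp only [map_add, ha, hb]

/-- A tensor product of stalkwise bijective maps is stalkwise bijective. -/
theorem bijective_stMap_tensorHom {P P' Q Q' : PM R} (f : P ⟶ P') (g : Q ⟶ Q')
    (hf : Function.Bijective (stMap f x)) (hg : Function.Bijective (stMap g x)) :
    Function.Bijective (stMap (f ⊗ₘ g) x) := by
  let e := TensorProduct.congr (LinearEquiv.ofBijective _ hf) (LinearEquiv.ofBijective _ hg)
  have : (stMap (f ⊗ₘ g) x : _ → _) =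
      (stalkTensorEquiv P' Q' x).symm ∘ e ∘ stalkTensorEquiv P Q x := by
    funext z
    exact (stalkTensorEquiv P' Q' x).eq_symm_apply.mpr (stMap_tensorHom f g x z)
  rw [this]
  exact (stalkTensorEquiv P' Q' x).symm.bijective.comp (e.bijective.comp (LinearEquiv.bijective _))

end Groth.Agent.M2
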