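import Groth.Agent.Lib.TensorMod.Invertible
import Groth.Agent.Lib.ModM1.FT

/-!
Maps out of finite locally free modules lift locally along epimorphisms.
-/

universe u

open CategoryTheory Limits AlgebraicGeometry TopologicalSpace Opposite

set_option backward.isDefEq.respectTransparency false

namespace Groth.Agent.M2

variable {X : Scheme.{u}}

/-- `freeMod X n` is free on `ULift (Fin n)`. -/
noncomputable def freeModFrIso (X : Scheme.{u}) (n : ℕ) :
    FlatMod.freeMod X n ≅ (M1.fr (ULift.{u} (Fin n)) : X.Modules) :=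
  Sigma.whiskerEquiv (f := fun _ : Fin n => Coh.structureModule X)
      (g := fun _ : ULift.{u} (Fin n) => Coh.structureModule X) Equiv.ulift.symm (fun _ => Iso.refl _) ≪≫
    IsColimit.coconePointUniqueUpToIso (coproductIsCoproduct _)
      (SheafOfModules.isColimitFreeCofan (R := X.ringCatSheaf) (ULift.{u} (Fin n)))

/-- A map out of a finite locally free module lifts locally along an epimorphism. -/
theorem exists_lift_local {E F G : X.Modules} (p : G ⟶ F) [Epi p] (φ : E ⟶ F)
    (hE : FlatMod.IsFinLocFree E) (x : X) :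
    ∃ (V : X.Opens) (ψ : E.restrict V.ι ⟶ G.restrict V.ι), x ∈ V ∧
      ψ ≫ (Scheme.Modules.restrictFunctor V.ι).map p = (Scheme.Modules.restrictFunctor V.ι).map φ := by
  obtain ⟨U, n, hxU, ⟨i⟩⟩ := hE x
  let i' := i ≪≫ freeModFrIso _ n
  obtain ⟨V, hxV, hV⟩ := M1.exists_lift_fr ((Scheme.Modules.restrictFunctor U.ι).map p)
    (i'.inv ≫ (Scheme.Modules.restrictFunctor U.ι).map φ) ⟨x, hxU⟩
  obtain ⟨a, ha⟩ := hV V le_rfl
  let e : ((U.ι ''ᵁ V : X.Opens) : Scheme.{u}) ⟶ (V : Scheme.{u}) := (U.ι.isoImage V).inv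
  have he : e ≫ V.ι ≫ U.ι = (U.ι ''ᵁ V).ι := Scheme.Hom.isoImage_inv_ι _ _
  haveI : IsOpenImmersion e := inferInstanceAs (IsOpenImmersion (U.ι.isoImage V).inv)
  let α : Scheme.Modules.restrictFunctor U.ι ⋙ Scheme.Modules.restrictFunctor V.ι ⋙
      Scheme.Modules.restrictFunctor e ≅ Scheme.Modules.restrictFunctor (U.ι ''ᵁ V).ι :=
    (Functor.associator _ _ _).symm ≪≫
    Functor.isoWhiskerRight (Scheme.Modules.restrictFunctorComp V.ι U.ι).symm _ ≪≫
      (Scheme.Modules.restrictFunctorComp e (V.ι ≫ U.ι)).symm ≪≫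
      Scheme.Modules.restrictFunctorCongr he
  refine ⟨U.ι ''ᵁ V, α.inv.app E ≫ (Scheme.Modules.restrictFunctor e).map
    ((Scheme.Modules.restrictFunctor V.ι).map i'.hom ≫ a) ≫ α.hom.app G, ⟨⟨x, hxU⟩, hxV, rfl⟩, ?_⟩
  have key : ∀ {A B : X.Modules} (f : A ⟶ B),
      (Scheme.Modules.restrictFunctor e).map ((Scheme.Modules.restrictFunctor V.ι).map
        ((Scheme.Modules.restrictFunctor U.ι).map f)) ≫ α.hom.app B =
      α.hom.app A ≫ (Scheme.Modules.restrictFunctor (U.ι ''ᵁ V).ι).map f := fun f => α.hom.naturality f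
  refine (Category.assoc _ _ _).trans ((congrArg (α.inv.app E ≫ ·) ?_).trans
    ((congrArg (α.inv.app E ≫ ·) (key φ)).trans ((Category.assoc _ _ _).symm.trans
      ((congrArg (· ≫ _) (α.inv_hom_id_app E)).trans (Category.id_comp _)))))
  refine (Category.assoc _ _ _).trans ((congrArg (_ ≫ ·) (key p).symm).trans ?_)
  refine (Category.assoc _ _ _).symm.trans (congrArg (· ≫ α.hom.app F) ?_)
  rw [← Functor.map_comp, Category.assoc]
  refine congrArg _ ((congrArg (_ ≫ ·) ha).trans ?_)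
  rw [← Functor.map_comp, Iso.hom_inv_id_assoc]

end Groth.Agent.M2
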